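import Mathlib
import Cfsg.Prelude

set_option autoImplicit false
set_option linter.unusedSectionVars false
set_option linter.unusedVariables false
set_option maxHeartbeats 1000000
open Cfsg

/-! Elementary group-theoretic lemmas for the `II-b` endgame of the Kurzweil--Stellmacher
chapter 12 chain: normaliser growth in `2`-groups, conjugate subgroups, involutions acting on an
elementary abelian group with two fixed points. -/

namespace Cfsg.Agent.Lib.Helper5.KSEnd

variable {G : Type*} [Group G]

/-! ### conjugate subgroups -/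

/-- the conjugate `x H x⁻¹` -/
def cj (x : G) (H : Subgroup G) : Subgroup G := H.map (MulAut.conj x).toMonoidHom

theorem mem_cj {x a : G} {H : Subgroup G} : a ∈ cj x H ↔ x⁻¹ * a * x ∈ H := by
  unfold cj
  rw [Subgroup.mem_map]
  constructor
  · rintro ⟨h, hh, rfl⟩
    simp only [MulEquiv.coe_toMonoidHom, MulAut.conj_apply]
    have : x⁻¹ * (x * h * x⁻¹) * x = h := by group
    rw [this]; exact hh
  · intro h
    refine ⟨x⁻¹ * a * x, h, ?_⟩
    simp only [MulEquiv.coe_toMonoidHom, MulAut.conj_apply]
    group

theorem conj_mem_cj {x a : G} {H : Subgroup G} (ha : a ∈ H) : x * a * x⁻¹ ∈ cj x H := by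
  rw [mem_cj]
  have : x⁻¹ * (x * a * x⁻¹) * x = a := by group
  rw [this]; exact ha

theorem card_cj (x : G) (H : Subgroup G) : Nat.card (cj x H) = Nat.card H := by
  unfold cj
  exact (Nat.card_congr (H.equivMapOfInjective _ (MulAut.conj x).injective).toEquiv).symm

theorem cj_le_of_normalizes {x : G} {H R : Subgroup G} (hHR : H ≤ R)
    (hx : ∀ r, r ∈ R → x * r * x⁻¹ ∈ R) : cj x H ≤ R := by
  intro a ha
  rw [mem_cj] at ha
  have := hx _ (hHR ha)
  have e : x * (x⁻¹ * a * x) * x⁻¹ = a := by group
  rw [e] at this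
  exact this

theorem isPGroup_cj {p : ℕ} (x : G) {H : Subgroup G} (hH : IsPGroup p H) : IsPGroup p (cj x H) := by
  unfold cj
  exact hH.map _

/-! ### normaliser growth -/

theorem exists_normalizing [Finite G] {S R : Subgroup G} (hS : IsPGroup 2 S) (hRS : R ≤ S)
    (hne : R ≠ S) : ∃ x ∈ S, x ∉ R ∧ ∀ r, x * r * x⁻¹ ∈ R ↔ r ∈ R := by
  haveI : Fact (Nat.Prime 2) := ⟨Nat.prime_two⟩
  haveI : Group.IsNilpotent ↥S := hS.isNilpotent
  have hlt : R.subgroupOf S < ⊤ := by
    rw [lt_top_iff_ne_top]
    intro h
    apply hne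
    apply le_antisymm hRS
    intro s hs
    have : (⟨s, hs⟩ : ↥S) ∈ R.subgroupOf S := by rw [h]; exact Subgroup.mem_top _
    exact Subgroup.mem_subgroupOf.mp this
  have hnc := Group.normalizerCondition_of_isNilpotent (G := ↥S) (R.subgroupOf S) hlt
  obtain ⟨y, hyN, hyR⟩ := SetLike.exists_of_lt hnc
  refine ⟨y.1, y.2, fun h => hyR (Subgroup.mem_subgroupOf.mpr h), fun r => ?_⟩
  rw [Subgroup.mem_normalizer_iff] at hyN
  constructor
  · intro h
    have hrS : r ∈ S := by
      have h1 : y.1 * r * y.1⁻¹ ∈ S := hRS h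
      have h2 := S.mul_mem (S.mul_mem (S.inv_mem y.2) h1) y.2
      have e : y.1⁻¹ * (y.1 * r * y.1⁻¹) * y.1 = r := by group
      rw [e] at h2
      exact h2
    have := (hyN ⟨r, hrS⟩).mpr (Subgroup.mem_subgroupOf.mpr h)
    exact Subgroup.mem_subgroupOf.mp this
  · intro h
    have := (hyN ⟨r, hRS h⟩).mp (Subgroup.mem_subgroupOf.mpr h)
    exact Subgroup.mem_subgroupOf.mp this

/-! ### an involution acting on an elementary abelian group with fixed points `{1, z}` -/

/-- structure of an elementary abelian group with an involutory operator with exactly two fixed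
points -/
theorem four_structure {V : Subgroup G} (hVab : ∀ a ∈ V, ∀ b ∈ V, a * b = b * a)
    (hVe : ∀ v ∈ V, v * v = 1) {e z : G} (he : e * e = 1)
    (hen : ∀ v ∈ V, e * v * e⁻¹ ∈ V) (hz : z ∈ V) (hze : e * z = z * e)
    (hC : ∀ v ∈ V, e * v = v * e → v = 1 ∨ v = z) (h4 : 4 ≤ Nat.card V) [Finite V] :
    ∃ u ∈ V, u ≠ 1 ∧ u ≠ z ∧ e * u * e⁻¹ = u * z ∧ ∀ v ∈ V, v = 1 ∨ v = z ∨ v = u ∨ v = u * z := by
  have einv : e⁻¹ = e := inv_eq_of_mul_eq_one_left he
  -- a moved element is moved to its product with `z`
  have hmove : ∀ v ∈ V, e * v ≠ v * e → e * v * e⁻¹ = v * z := by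
    intro v hv hne
    have hw := hen v hv
    set w := e * v * e⁻¹ with hw_def
    have hvw : v * w ∈ V := V.mul_mem hv hw
    have hfix : e * (v * w) = (v * w) * e := by
      have h1 : e * w * e⁻¹ = v := by
        rw [hw_def, einv]
        calc e * (e * v * e) * e = (e * e) * v * (e * e) := by group
          _ = v := by rw [he]; group
      have h2 : e * (v * w) * e⁻¹ = w * v := by
        calc e * (v * w) * e⁻¹ = (e * v * e⁻¹) * (e * w * e⁻¹) := by group
          _ = w * v := by rw [h1]
      have h3 : e * (v * w) * e⁻¹ = v * w := by rw [h2]; exact hVab w hw v hv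
      calc e * (v * w) = (e * (v * w) * e⁻¹) * e := by group
        _ = (v * w) * e := by rw [h3]
    rcases hC _ hvw hfix with h1 | h1
    · exfalso
      apply hne
      have hwv : w = v := by
        have : v * w = v * v := by rw [h1, hVe v hv]
        exact (mul_left_cancel this)
      have : e * v * e⁻¹ = v := hwv
      calc e * v = (e * v * e⁻¹) * e := by group
        _ = v * e := by rw [this]
    · calc w = v⁻¹ * (v * w) := by group
        _ = v⁻¹ * z := by rw [h1]
        _ = v * z := by rw [inv_eq_of_mul_eq_one_left (hVe v hv)]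
  -- existence of a moved element
  have hex : ∃ u ∈ V, u ≠ 1 ∧ u ≠ z := by
    by_contra hcon
    push_neg at hcon
    have hsub : (V : Set G) ⊆ {1, z} := by
      intro v hv
      by_cases h1 : v = 1
      · left; exact h1
      · right; exact hcon v hv h1
    have hfin : ({1, z} : Set G).Finite := by simp
    have hcard : Nat.card V ≤ 2 := by
      rw [← SetLike.coe_sort_coe, Nat.card_coe_set_eq]
      calc (V : Set G).ncard ≤ ({1, z} : Set G).ncard := Set.ncard_le_ncard hsub hfin
        _ ≤ 2 := Set.ncard_insert_le _ _ |>.trans (by simp)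
    omega
  obtain ⟨u, hu, hu1, huz⟩ := hex
  have hune : e * u ≠ u * e := fun h => by
    rcases hC u hu h with h | h
    · exact hu1 h
    · exact huz h
  refine ⟨u, hu, hu1, huz, hmove u hu hune, ?_⟩
  intro v hv
  by_cases hfix : e * v = v * e
  · rcases hC v hv hfix with h | h
    · left; exact h
    · right; left; exact h
  · right; right
    have h1 := hmove u hu hune
    have h2 := hmove v hv hfix
    have huv : u * v ∈ V := V.mul_mem hu hv
    have hfix2 : e * (u * v) = (u * v) * e := by
      have : e * (u * v) * e⁻¹ = u * v := by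
        calc e * (u * v) * e⁻¹ = (e * u * e⁻¹) * (e * v * e⁻¹) := by group
          _ = (u * z) * (v * z) := by rw [h1, h2]
          _ = u * (z * v) * z := by group
          _ = u * (v * z) * z := by rw [hVab z hz v hv]
          _ = u * v * (z * z) := by group
          _ = u * v := by rw [hVe z hz, mul_one]
      calc e * (u * v) = (e * (u * v) * e⁻¹) * e := by group
        _ = (u * v) * e := by rw [this]
    rcases hC _ huv hfix2 with h | h
    · left
      have : u * v = u * u := by rw [h, hVe u hu]
      exact (mul_left_cancel this)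
    · right
      have : u * v = u * (u * z) := by
        rw [h, ← mul_assoc, hVe u hu, one_mul]
      exact mul_left_cancel this

/-- an element `q` whose coset `q V` is fixed by the involution `e` can be corrected by an element
of `V` to an element commuting with `e` -/
theorem exists_fixed_of_coset {V : Subgroup G} (hVe : ∀ v ∈ V, v * v = 1) {e z u q v : G}
    (he : e * e = 1) (hz : z ∈ V) (hu : u ∈ V) (hzu : z * u = u * z)
    (hue : e * u * e⁻¹ = u * z) (hC : ∀ v ∈ V, e * v = v * e → v = 1 ∨ v = z) (hv : v ∈ V)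
    (hq : e * q * e⁻¹ = q * v) : ∃ w ∈ V, e * (q * w) = q * w * e := by
  have einv : e⁻¹ = e := inv_eq_of_mul_eq_one_left he
  have h1 : e * (e * q * e⁻¹) * e⁻¹ = q := by
    rw [einv]
    calc e * (e * q * e) * e = (e * e) * q * (e * e) := by group
      _ = q := by rw [he]; group
  have h2 : e * (q * v) * e⁻¹ = q * v * (e * v * e⁻¹) := by
    calc e * (q * v) * e⁻¹ = (e * q * e⁻¹) * (e * v * e⁻¹) := by group
      _ = q * v * (e * v * e⁻¹) := by rw [hq]
  rw [hq, h2] at h1
  have h3 : v * (e * v * e⁻¹) = 1 := by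
    have : q * (v * (e * v * e⁻¹)) = q * 1 := by rw [mul_one, ← mul_assoc]; exact h1
    exact mul_left_cancel this
  have h4 : e * v * e⁻¹ = v := by
    have : e * v * e⁻¹ = v⁻¹ := (inv_eq_of_mul_eq_one_right h3).symm
    rw [this]
    exact inv_eq_of_mul_eq_one_left (hVe v hv)
  have h5 : e * v = v * e := by
    calc e * v = (e * v * e⁻¹) * e := by group
      _ = v * e := by rw [h4]
  rcases hC v hv h5 with rfl | rfl
  · refine ⟨1, V.one_mem, ?_⟩
    rw [mul_one] at hq ⊢
    calc e * q = (e * q * e⁻¹) * e := by group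
      _ = q * e := by rw [hq]
  · refine ⟨u, hu, ?_⟩
    have : e * (q * u) * e⁻¹ = q * u := by
      calc e * (q * u) * e⁻¹ = (e * q * e⁻¹) * (e * u * e⁻¹) := by group
        _ = (q * v) * (u * v) := by rw [hq, hue]
        _ = q * (v * u) * v := by group
        _ = q * (u * v) * v := by rw [hzu]
        _ = q * u * (v * v) := by group
        _ = q * u := by rw [hVe v hz, mul_one]
    calc e * (q * u) = (e * (q * u) * e⁻¹) * e := by group
      _ = q * u * e := by rw [this]

/-- the subgroup `V ∪ V e` for an involution `e` normalising `V` -/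
def adj (V : Subgroup G) (e : G) (he : e * e = 1) (hen : ∀ v ∈ V, e * v * e⁻¹ ∈ V) : Subgroup G where
  carrier := {a | a ∈ V ∨ a * e ∈ V}
  one_mem' := Or.inl V.one_mem
  mul_mem' := by
    have einv : e⁻¹ = e := inv_eq_of_mul_eq_one_left he
    rintro a b (ha | ha) (hb | hb)
    · exact Or.inl (V.mul_mem ha hb)
    · right
      have : a * b * e = a * (b * e) := by group
      rw [this]
      exact V.mul_mem ha hb
    · right
      have h1 := hen b hb
      have : a * b * e = (a * e) * (e * b * e⁻¹) := by
        rw [einv]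
        calc a * b * e = a * (1 * b) * e := by rw [one_mul]
          _ = a * ((e * e) * b) * e := by rw [he]
          _ = (a * e) * (e * b * e) := by group
      rw [this]
      exact V.mul_mem ha h1
    · left
      have h1 := hen (b * e) hb
      have : a * b = (a * e) * (e * (b * e) * e⁻¹) := by
        rw [einv]
        calc a * b = a * (1 * b * 1) := by rw [one_mul, mul_one]
          _ = a * ((e * e) * b * (e * e)) := by rw [he]
          _ = (a * e) * (e * (b * e) * e) := by group
      rw [this]
      exact V.mul_mem ha h1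
  inv_mem' := by
    have einv : e⁻¹ = e := inv_eq_of_mul_eq_one_left he
    rintro a (ha | ha)
    · exact Or.inl (V.inv_mem ha)
    · right
      have h1 := hen _ (V.inv_mem ha)
      have : a⁻¹ * e = e * (a * e)⁻¹ * e⁻¹ := by
        rw [einv]
        calc a⁻¹ * e = 1 * a⁻¹ * e := by rw [one_mul]
          _ = (e * e) * a⁻¹ * e := by rw [he]
          _ = e * (a * e⁻¹)⁻¹ * e := by group
          _ = e * (a * e)⁻¹ * e := by rw [einv]
      rw [this]
      exact h1

theorem mem_adj {V : Subgroup G} {e : G} {he : e * e = 1} {hen : ∀ v ∈ V, e * v * e⁻¹ ∈ V}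
    {a : G} : a ∈ adj V e he hen ↔ a ∈ V ∨ a * e ∈ V := Iff.rfl

end Cfsg.Agent.Lib.Helper5.KSEnd
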