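import Mathlib
import Cfsg.Prelude
import Cfsg.Agent.Lib.Helper5.KSEnd.Basic

set_option autoImplicit false
set_option linter.unusedSectionVars false
set_option linter.unusedVariables false
set_option maxHeartbeats 1000000
open Cfsg

/-! The common setting of the `II-b` endgame and its first consequences. -/

namespace Cfsg.Agent.Lib.Helper5.KSEnd

variable {G : Type*} [Group G]

/-- the common hypotheses: `S` a `2`-group, `Q ≤ S` normalised by `S`, `V ≤ Z(Q)` elementary
abelian with `C_S(V) ≤ Q`, central involutions of `S` in `V`, `4 ≤ |V|`, `L ≥ S` normalising `V`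
and containing an element of order `3`; `R < S` a Sylow `2`-subgroup of `P`, and `P` is not properly
contained in a `2`-local subgroup. -/
structure Setup (S L P R Q V : Subgroup G) : Prop where
  hS2 : IsPGroup 2 S
  hSL : S ≤ L
  hQS : Q ≤ S
  hQn : ∀ s ∈ S, ∀ q ∈ Q, s * q * s⁻¹ ∈ Q
  hVQ : V ≤ Q
  hVc : ∀ v ∈ V, ∀ q ∈ Q, v * q = q * v
  hVe : ∀ v ∈ V, v * v = 1
  hL2 : ∀ s ∈ S, (∀ v ∈ V, s * v = v * s) → s ∈ Q
  hL3 : ∀ z ∈ S, (∀ s ∈ S, z * s = s * z) → z * z = 1 → z ∈ V
  hL4 : 4 ≤ Nat.card V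
  hL5 : ∀ l ∈ L, ∀ v ∈ V, l * v * l⁻¹ ∈ V
  hL6 : ∃ g ∈ L, orderOf g = 3
  hRS : R ≤ S
  hRP : R ≤ P
  hRne : R ≠ S
  hRmax : ∀ R' : Subgroup G, IsPGroup 2 R' → R' ≤ P → Nat.card R' ≤ Nat.card R
  hP3 : ∀ H : Subgroup G, IsTwoLocal H → P ≤ H → H = P

/-- a subgroup of a finite group all of whose elements are among two given ones has at most two
elements; elementwise form -/
theorem mem_of_card_two [Finite G] {H : Subgroup G} (hc : Nat.card H = 2) {z : G} (hz : z ∈ H)
    (hz1 : z ≠ 1) : ∀ a ∈ H, a = 1 ∨ a = z := by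
  intro a ha
  by_contra hcon
  push_neg at hcon
  have hsub : ({1, z, a} : Set G) ⊆ (H : Set G) := by
    intro b hb
    rcases hb with rfl | rfl | rfl
    · exact H.one_mem
    · exact hz
    · exact ha
  have h3 : ({1, z, a} : Set G).ncard = 3 := by
    rw [Set.ncard_eq_three]
    exact ⟨1, z, a, fun h => hz1 h.symm, fun h => hcon.1 h.symm, fun h => hcon.2 h.symm, rfl⟩
  have hle : ({1, z, a} : Set G).ncard ≤ (H : Set G).ncard :=
    Set.ncard_le_ncard hsub (Set.toFinite _)
  rw [h3, ← Nat.card_coe_set_eq, SetLike.coe_sort_coe, hc] at hle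
  omega

/-- a subgroup of order four of exponent two is `{1, z, e, e z}` -/
theorem mem_of_card_four [Finite G] {H : Subgroup G} (hc : Nat.card H = 4)
    (hexp : ∀ a ∈ H, a * a = 1)
    {z e : G} (hz : z ∈ H) (he : e ∈ H) (hz1 : z ≠ 1) (he1 : e ≠ 1) (hez : e ≠ z) :
    ∀ a ∈ H, a = 1 ∨ a = z ∨ a = e ∨ a = e * z := by
  intro a ha
  have hezH : e * z ∈ H := H.mul_mem he hz
  have d1 : e * z ≠ 1 := by
    intro h
    apply hez
    have : e = z⁻¹ := eq_inv_of_mul_eq_one_left h
    rw [this]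
    exact inv_eq_of_mul_eq_one_left (hexp z hz)
  have d2 : e * z ≠ z := by
    intro h
    apply he1
    have : e * z = 1 * z := by rw [h, one_mul]
    exact mul_right_cancel this
  have d3 : e * z ≠ e := by
    intro h
    apply hz1
    have : e * z = e * 1 := by rw [h, mul_one]
    exact mul_left_cancel this
  have hsub : ({1, z, e, e * z} : Set G) ⊆ (H : Set G) := by
    intro b hb
    rcases hb with rfl | rfl | rfl | rfl
    · exact H.one_mem
    · exact hz
    · exact he
    · exact hezH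
  have h4 : ({1, z, e, e * z} : Set G).ncard = 4 := by
    rw [Set.ncard_insert_of_notMem, Set.ncard_insert_of_notMem, Set.ncard_pair]
    · exact fun h => d3 h.symm
    · simp only [Set.mem_insert_iff, Set.mem_singleton_iff, not_or]
      exact ⟨fun h => hez h.symm, fun h => d2 h.symm⟩
    · simp only [Set.mem_insert_iff, Set.mem_singleton_iff, not_or]
      exact ⟨fun h => hz1 h.symm, fun h => he1 h.symm, fun h => d1 h.symm⟩
  have heq : ({1, z, e, e * z} : Set G) = (H : Set G) := by
    apply Set.eq_of_subset_of_ncard_le hsub _ (Set.toFinite _)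
    rw [h4, ← Nat.card_coe_set_eq, SetLike.coe_sort_coe, hc]
  have : a ∈ ({1, z, e, e * z} : Set G) := by rw [heq]; exact ha
  rcases this with h | h | h | h
  · left; exact h
  · right; left; exact h
  · right; right; left; exact h
  · right; right; right; exact h

namespace Setup

variable [Finite G] {S L P R Q V : Subgroup G} (h : Setup S L P R Q V)

include h in
theorem inf_eq : S ⊓ P = R := by
  have h2 : IsPGroup 2 ↥(S ⊓ P) := h.hS2.to_le inf_le_left
  have hle : R ≤ S ⊓ P := le_inf h.hRS h.hRP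
  exact (Subgroup.eq_of_le_of_card_ge hle (h.hRmax _ h2 inf_le_right)).symm

include h in
theorem card_lt : Nat.card R < Nat.card S := by
  rcases Nat.lt_or_ge (Nat.card R) (Nat.card S) with h1 | h1
  · exact h1
  · exact absurd (Subgroup.eq_of_le_of_card_ge h.hRS h1) h.hRne

include h in
theorem not_cj_le (g : G) : ¬ cj g S ≤ P := by
  intro hle
  have := h.hRmax _ (isPGroup_cj g h.hS2) hle
  rw [card_cj] at this
  have := h.card_lt
  omega

include h in
theorem normalizer_eq {E : Subgroup G} (hE2 : IsPGroup 2 E) (hEne : E ≠ ⊥)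
    (hEn : ∀ p ∈ P, ∀ a ∈ E, p * a * p⁻¹ ∈ E) : Subgroup.normalizer (E : Set G) = P := by
  apply h.hP3 _ ⟨E, hE2, hEne, rfl⟩
  intro p hp
  rw [Subgroup.mem_normalizer_iff]
  intro a
  constructor
  · exact hEn p hp a
  · intro ha
    have := hEn p⁻¹ (P.inv_mem hp) _ ha
    have e : p⁻¹ * (p * a * p⁻¹) * p⁻¹⁻¹ = a := by group
    rw [e] at this
    exact this

include h in
theorem le_of_normal {E : Subgroup G} (hE2 : IsPGroup 2 E) (hEP : E ≤ P)
    (hEn : ∀ p ∈ P, ∀ a ∈ E, p * a * p⁻¹ ∈ E) : E ≤ R := by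
  have hR2 : IsPGroup 2 R := h.hS2.to_le h.hRS
  have hRn : R ≤ Subgroup.normalizer (E : Set G) := by
    intro r hr
    rw [Subgroup.mem_normalizer_iff]
    intro a
    constructor
    · exact hEn r (h.hRP hr) a
    · intro ha
      have := hEn r⁻¹ (P.inv_mem (h.hRP hr)) _ ha
      have e : r⁻¹ * (r * a * r⁻¹) * r⁻¹⁻¹ = a := by group
      rw [e] at this
      exact this
  have hsup : IsPGroup 2 ↥(E ⊔ R) := IsPGroup.to_sup_of_normal_left' hE2 hR2 hRn
  have hle : E ⊔ R ≤ P := sup_le hEP h.hRP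
  have hc := h.hRmax _ hsup hle
  have heq : R = E ⊔ R := Subgroup.eq_of_le_of_card_ge le_sup_right hc
  rw [heq]
  exact le_sup_left

include h in
theorem L_le_normalizer : L ≤ Subgroup.normalizer (V : Set G) := by
  intro l hl
  rw [Subgroup.mem_normalizer_iff]
  intro a
  constructor
  · exact h.hL5 l hl a
  · intro ha
    have := h.hL5 l⁻¹ (L.inv_mem hl) _ ha
    have e : l⁻¹ * (l * a * l⁻¹) * l⁻¹⁻¹ = a := by group
    rw [e] at this
    exact this

include h in
/-- a central involution of `S` -/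
theorem exists_central_invol :
    ∃ z ∈ S, z ≠ 1 ∧ (∀ s ∈ S, z * s = s * z) ∧ z * z = 1 := by
  haveI : Fact (Nat.Prime 2) := ⟨Nat.prime_two⟩
  have hne : S ≠ ⊥ := by
    intro hS
    apply h.hRne
    apply le_antisymm h.hRS
    rw [hS]
    exact bot_le
  haveI : Nontrivial ↥S := (Subgroup.nontrivial_iff_ne_bot S).mpr hne
  have hZ2 : IsPGroup 2 ↥(Subgroup.center ↥S) := h.hS2.to_subgroup _
  haveI : Nontrivial ↥(Subgroup.center ↥S) := h.hS2.center_nontrivial
  have hdvd : 2 ∣ Nat.card ↥(Subgroup.center ↥S) := by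
    obtain ⟨n, hn⟩ := IsPGroup.iff_card.mp hZ2
    have hn0 : n ≠ 0 := by
      intro h0
      rw [h0, pow_zero] at hn
      have := Finite.one_lt_card (α := ↥(Subgroup.center ↥S))
      omega
    rw [hn]
    exact dvd_pow_self 2 hn0
  obtain ⟨y, hy⟩ := exists_prime_orderOf_dvd_card' 2 hdvd
  have hy1 : y ≠ 1 := by
    intro h1
    rw [h1, orderOf_one] at hy
    omega
  have hyy : y * y = 1 := by
    have := pow_orderOf_eq_one y
    rw [hy, pow_two] at this
    exact this
  refine ⟨y.1.1, y.1.2, ?_, ?_, ?_⟩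
  · intro h1
    apply hy1
    apply Subtype.ext
    apply Subtype.ext
    exact h1
  · intro s hs
    have := Subgroup.mem_center_iff.mp y.2 ⟨s, hs⟩
    have := congrArg Subtype.val this
    exact this.symm
  · have := congrArg (fun t : ↥(Subgroup.center ↥S) => (t.1.1 : G)) hyy
    exact this

end Setup

end Cfsg.Agent.Lib.Helper5.KSEnd
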