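import Mathlib
import Cfsg.Prelude
import Cfsg.Agent.Lib.Helper5.KSEnd.Setup

set_option autoImplicit false
set_option linter.unusedSectionVars false
set_option linter.unusedVariables false
set_option maxHeartbeats 1000000
open Cfsg

/-! The case `P ≅ S₄` of the `II-b` endgame. -/

namespace Cfsg.Agent.Lib.Helper5.KSEnd

variable {G : Type*} [Group G] [Finite G]

/-- the data of `P ≅ S₄` that is used: a normal self-centralising four-group -/
structure S4Data (P E₁ : Subgroup G) : Prop where
  E_le : E₁ ≤ P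
  E_norm : ∀ p ∈ P, ∀ a ∈ E₁, p * a * p⁻¹ ∈ E₁
  E_card : Nat.card E₁ = 4
  E_exp : ∀ a ∈ E₁, a * a = 1
  E_cent : ∀ p ∈ P, (∀ a ∈ E₁, p * a = a * p) → p ∈ E₁

variable {S L P R Q V E₁ : Subgroup G}

/-- commuting with two elements gives commuting with their product -/
theorem comm_mul {g a b : G} (ha : g * a = a * g) (hb : g * b = b * g) : g * (a * b) = a * b * g := by
  calc g * (a * b) = (g * a) * b := by group
    _ = a * (g * b) := by rw [ha]; group
    _ = a * b * g := by rw [hb]; group

theorem case_S4 (h : Setup S L P R Q V) (d : S4Data P E₁) (hRc : Nat.card R = 8) : False := by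
  haveI : Fact (Nat.Prime 2) := ⟨Nat.prime_two⟩
  -- basic facts on `E₁`
  have hE2 : IsPGroup 2 ↥E₁ := IsPGroup.of_card (n := 2) (by rw [d.E_card]; norm_num)
  have hEne : E₁ ≠ ⊥ := by
    intro hb
    have := d.E_card
    rw [hb, Subgroup.card_bot] at this
    omega
  have hN : Subgroup.normalizer (E₁ : Set G) = P := h.normalizer_eq hE2 hEne d.E_norm
  have hCE : ∀ g : G, (∀ a ∈ E₁, g * a = a * g) → g ∈ E₁ := by
    intro g hg
    have hgP : g ∈ P := by
      rw [← hN, Subgroup.mem_normalizer_iff]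
      intro a
      constructor
      · intro ha
        have : g * a * g⁻¹ = a := by rw [hg a ha]; group
        rw [this]; exact ha
      · intro ha
        have h1 := hg _ ha
        have : a = g * a * g⁻¹ := by
          have h2 : g * (g * a * g⁻¹) * g⁻¹ = g * a * g⁻¹ := by rw [h1]; group
          have h3 : g * (g * a * g⁻¹) * g⁻¹ = g * (g * a * g⁻¹ * g⁻¹) := by group
          have h4 : g * a * g⁻¹ = g * (a * g⁻¹) := by group
          rw [h3, h4] at h2
          have h5 := mul_left_cancel h2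
          have h6 : g * (a * g⁻¹) * g⁻¹ = a * g⁻¹ → g * (a * g⁻¹) = a := by
            intro hh
            calc g * (a * g⁻¹) = (g * (a * g⁻¹) * g⁻¹) * g := by group
              _ = a * g⁻¹ * g := by rw [hh]
              _ = a := by group
          have h7 := h6 h5
          rw [← h4] at h7
          exact h7.symm
        rw [this]; exact ha
    exact d.E_cent g hgP hg
  have hER : E₁ ≤ R := h.le_of_normal hE2 d.E_le d.E_norm
  -- the element `x`
  obtain ⟨x, hxS, hxR, hxn⟩ := exists_normalizing h.hS2 h.hRS h.hRne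
  have hxP : x ∉ P := fun hx => hxR (by rw [← h.inf_eq]; exact ⟨hxS, hx⟩)
  set E₂ := cj x E₁ with hE₂
  have hE₂R : E₂ ≤ R := cj_le_of_normalizes hER (fun r hr => (hxn r).mpr hr)
  have hE₂ne : E₂ ≠ E₁ := by
    intro heq
    apply hxP
    rw [← hN, Subgroup.mem_normalizer_iff]
    intro a
    constructor
    · intro ha
      rw [← heq]
      exact conj_mem_cj ha
    · intro ha
      rw [← heq, hE₂, mem_cj] at ha
      have e : x⁻¹ * (x * a * x⁻¹) * x = a := by group
      rw [e] at ha
      exact ha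
  have hE₂c : Nat.card E₂ = 4 := by rw [hE₂, card_cj, d.E_card]
  have hCE₂ : ∀ g : G, (∀ a ∈ E₂, g * a = a * g) → g ∈ E₂ := by
    intro g hg
    rw [hE₂, mem_cj]
    apply hCE
    intro a ha
    have h1 := hg _ (conj_mem_cj (x := x) ha)
    calc x⁻¹ * g * x * a = x⁻¹ * (g * (x * a * x⁻¹)) * x := by group
      _ = x⁻¹ * ((x * a * x⁻¹) * g) * x := by rw [h1]
      _ = a * (x⁻¹ * g * x) := by group
  -- the intersection
  have hI4 : Nat.card ↥(E₁ ⊓ E₂) ∣ 4 := by
    have := Subgroup.card_dvd_of_le (inf_le_left : E₁ ⊓ E₂ ≤ E₁)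
    rwa [d.E_card] at this
  have hIne4 : Nat.card ↥(E₁ ⊓ E₂) ≠ 4 := by
    intro hc
    have h1 : E₁ ⊓ E₂ = E₁ := Subgroup.eq_of_le_of_card_ge inf_le_left (by rw [hc, d.E_card])
    have h2 : E₁ ≤ E₂ := by rw [← h1]; exact inf_le_right
    exact hE₂ne (Subgroup.eq_of_le_of_card_ge h2 (by rw [hE₂c, d.E_card])).symm
  have hIne1 : Nat.card ↥(E₁ ⊓ E₂) ≠ 1 := by
    intro hc
    have hbot : E₁ ⊓ E₂ = ⊥ := Subgroup.card_eq_one.mp hc
    -- the product map is injective
    let f : ↥E₁ × ↥E₂ → ↥R := fun p => ⟨p.1.1 * p.2.1, R.mul_mem (hER p.1.2) (hE₂R p.2.2)⟩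
    have hf : Function.Injective f := by
      rintro ⟨a, b⟩ ⟨a', b'⟩ hab
      have hab' : a.1 * b.1 = a'.1 * b'.1 := congrArg Subtype.val hab
      have hmem : a'.1⁻¹ * a.1 ∈ E₁ ⊓ E₂ := by
        refine ⟨E₁.mul_mem (E₁.inv_mem a'.2) a.2, ?_⟩
        have : a'.1⁻¹ * a.1 = b'.1 * b.1⁻¹ := by
          calc a'.1⁻¹ * a.1 = a'.1⁻¹ * (a.1 * b.1) * b.1⁻¹ := by group
            _ = a'.1⁻¹ * (a'.1 * b'.1) * b.1⁻¹ := by rw [hab']
            _ = b'.1 * b.1⁻¹ := by group
        rw [this]
        exact E₂.mul_mem b'.2 (E₂.inv_mem b.2)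
      rw [hbot, Subgroup.mem_bot] at hmem
      have ha : a = a' := by
        apply Subtype.ext
        have : a'.1 * (a'.1⁻¹ * a.1) = a'.1 * 1 := by rw [hmem]
        rw [mul_one, ← mul_assoc, mul_inv_cancel, one_mul] at this
        exact this
      have hb : b = b' := by
        apply Subtype.ext
        rw [ha] at hab'
        exact mul_left_cancel hab'
      rw [ha, hb]
    have hcard := Nat.card_le_card_of_injective f hf
    rw [Nat.card_prod, d.E_card, hE₂c, hRc] at hcard
    omega
  have hI2 : Nat.card ↥(E₁ ⊓ E₂) = 2 := by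
    have hle : Nat.card ↥(E₁ ⊓ E₂) ≤ 4 := Nat.le_of_dvd (by norm_num) hI4
    have hpos : 0 < Nat.card ↥(E₁ ⊓ E₂) := Nat.card_pos
    interval_cases hn : Nat.card ↥(E₁ ⊓ E₂)
    · exact absurd rfl hIne1
    · rfl
    · norm_num at hI4
    · exact absurd rfl hIne4
  -- the central involution
  obtain ⟨z, hzS, hz1, hzc, hzz⟩ := h.exists_central_invol
  have hzI : z ∈ E₁ ⊓ E₂ :=
    ⟨hCE z (fun a ha => hzc a (h.hRS (hER ha))), hCE₂ z (fun a ha => hzc a (h.hRS (hE₂R ha)))⟩
  have hzV : z ∈ V := h.hL3 z hzS hzc hzz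
  have hzE : z ∈ E₁ := hzI.1
  -- the element `e`
  obtain ⟨e, heE, he1, hez⟩ : ∃ e ∈ E₁, e ≠ 1 ∧ e ≠ z := by
    by_contra hcon
    push_neg at hcon
    have hsub : (E₁ : Set G) ⊆ {1, z} := by
      intro v hv
      by_cases h1 : v = 1
      · left; exact h1
      · right; exact hcon v hv h1
    have hfin : ({1, z} : Set G).Finite := by simp
    have hcard : Nat.card E₁ ≤ 2 := by
      rw [← SetLike.coe_sort_coe, Nat.card_coe_set_eq]
      calc (E₁ : Set G).ncard ≤ ({1, z} : Set G).ncard := Set.ncard_le_ncard hsub hfin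
        _ ≤ 2 := Set.ncard_insert_le _ _ |>.trans (by simp)
    rw [d.E_card] at hcard
    omega
  have hee : e * e = 1 := d.E_exp e heE
  have hE4 := mem_of_card_four d.E_card d.E_exp hzE heE hz1 he1 hez
  have heS : e ∈ S := h.hRS (hER heE)
  have hze : e * z = z * e := (hzc e heS).symm
  -- an element commuting with `e` and `z` centralises `E₁`
  have hcentE : ∀ g : G, g * e = e * g → g * z = z * g → ∀ a ∈ E₁, g * a = a * g := by
    intro g hge hgz a ha
    rcases hE4 a ha with rfl | rfl | rfl | rfl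
    · rw [mul_one, one_mul]
    · exact hgz
    · exact hge
    · exact comm_mul hge hgz
  -- `e ∉ Q`
  have heQ : e ∉ Q := by
    intro heQ
    have hVE : V ≤ E₁ := by
      intro v hv
      apply hCE
      apply hcentE v (h.hVc v hv e heQ)
      exact (hzc v (h.hQS (h.hVQ hv))).symm
    have hVeq : V = E₁ := Subgroup.eq_of_le_of_card_ge hVE (by rw [d.E_card]; exact h.hL4)
    have hLP : L ≤ P := by
      rw [← hN, ← hVeq]
      exact h.L_le_normalizer
    apply h.hRne
    apply le_antisymm h.hRS
    rw [← h.inf_eq]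
    exact le_inf le_rfl (h.hSL.trans hLP)
  have hezQ : e * z ∉ Q := by
    intro hq
    apply heQ
    have : e = (e * z) * z⁻¹ := by group
    rw [this]
    exact Q.mul_mem hq (Q.inv_mem (h.hVQ hzV))
  -- the centraliser of `e` in `Q`
  have hCQ : ∀ q ∈ Q, e * q = q * e → q = 1 ∨ q = z := by
    intro q hq hqe
    have hqE : q ∈ E₁ := hCE q (hcentE q hqe.symm (hzc q (h.hQS hq)).symm)
    rcases hE4 q hqE with h1 | h1 | h1 | h1
    · left; exact h1
    · right; exact h1
    · exact absurd (h1 ▸ hq) heQ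
    · exact absurd (h1 ▸ hq) hezQ
  -- the structure of `V`
  have hVab : ∀ a ∈ V, ∀ b ∈ V, a * b = b * a := fun a ha b hb => h.hVc a ha b (h.hVQ hb)
  have hen : ∀ v ∈ V, e * v * e⁻¹ ∈ V := fun v hv => h.hL5 e (h.hSL heS) v hv
  obtain ⟨u, huV, hu1, huz, hue, hV4⟩ := four_structure hVab h.hVe hee hen hzV hze
    (fun v hv hve => hCQ v (h.hVQ hv) hve) h.hL4
  have hzu : z * u = u * z := hVab z hzV u huV
  -- elements of `S` outside `Q`
  have hcentV : ∀ s ∈ S, s * u = u * s → s ∈ Q := by
    intro s hs hsu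
    apply h.hL2 s hs
    intro v hv
    rcases hV4 v hv with rfl | rfl | rfl | rfl
    · rw [mul_one, one_mul]
    · exact (hzc s hs).symm
    · exact hsu
    · exact comm_mul hsu (hzc s hs).symm
  have hmoveS : ∀ s ∈ S, s ∉ Q → s * u * s⁻¹ = u * z := by
    intro s hs hsQ
    have hmem : s * u * s⁻¹ ∈ V := h.hL5 s (h.hSL hs) u huV
    rcases hV4 _ hmem with h1 | h1 | h1 | h1
    · exfalso
      apply hu1
      have : u = s⁻¹ * (s * u * s⁻¹) * s := by group
      rw [this, h1]; group
    · exfalso
      apply huz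
      have : u = s⁻¹ * (s * u * s⁻¹) * s := by group
      rw [this, h1]
      have : s⁻¹ * z * s = z := by
        have := hzc s hs
        calc s⁻¹ * z * s = s⁻¹ * (z * s) := by group
          _ = s⁻¹ * (s * z) := by rw [this]
          _ = z := by group
      exact this
    · exfalso
      apply hsQ
      apply hcentV s hs
      calc s * u = (s * u * s⁻¹) * s := by group
        _ = u * s := by rw [h1]
    · exact h1
  have hSQ : ∀ s ∈ S, s ∉ Q → s * e ∈ Q := by
    intro s hs hsQ
    apply hcentV (s * e) (S.mul_mem hs heS)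
    have h1 := hmoveS s hs hsQ
    have h2 : s * e * u * (s * e)⁻¹ = u := by
      calc s * e * u * (s * e)⁻¹ = s * (e * u * e⁻¹) * s⁻¹ := by group
        _ = s * (u * z) * s⁻¹ := by rw [hue]
        _ = (s * u * s⁻¹) * (s * z * s⁻¹) := by group
        _ = (u * z) * z := by
          rw [h1]
          have : s * z * s⁻¹ = z := by
            rw [← hzc s hs]; group
          rw [this]
        _ = u * (z * z) := by group
        _ = u := by rw [hzz, mul_one]
    calc s * e * u = (s * e * u * (s * e)⁻¹) * (s * e) := by group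
      _ = u * (s * e) := by rw [h2]
  -- `Q = V`
  have hQV : Q ≤ V := by
    intro q₀ hq₀
    by_contra hq₀V
    set A := adj V e hee hen with hA
    have hAS : A ≤ S := by
      intro a ha
      rcases ha with ha | ha
      · exact h.hQS (h.hVQ ha)
      · have : a = (a * e) * e⁻¹ := by group
        rw [this]
        exact S.mul_mem (h.hQS (h.hVQ ha)) (S.inv_mem heS)
    have hVeQ : ∀ a : G, a * e ∈ V → a ∉ Q := by
      intro a ha haQ
      apply heQ
      have : e = a⁻¹ * (a * e) := by group
      rw [this]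
      exact Q.mul_mem (Q.inv_mem haQ) (h.hVQ ha)
    have hAne : A ≠ S := by
      intro heq
      have : q₀ ∈ A := by rw [heq]; exact h.hQS hq₀
      rcases this with h1 | h1
      · exact hq₀V h1
      · exact hVeQ q₀ h1 hq₀
    obtain ⟨y, hyS, hyA, hyn⟩ := exists_normalizing h.hS2 hAS hAne
    have heA : e ∈ A := Or.inr (by rw [hee]; exact V.one_mem)
    -- an element of `Q` outside `A` normalising `A`
    obtain ⟨q, hqQ, hqA, hqn⟩ : ∃ q ∈ Q, q ∉ A ∧ ∀ r, q * r * q⁻¹ ∈ A ↔ r ∈ A := by
      by_cases hyQ : y ∈ Q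
      · exact ⟨y, hyQ, hyA, hyn⟩
      · refine ⟨y * e, hSQ y hyS hyQ, ?_, ?_⟩
        · intro hmem
          apply hyA
          have : y = (y * e) * e⁻¹ := by group
          rw [this]
          exact A.mul_mem hmem (A.inv_mem heA)
        · intro r
          have e1 : y * e * r * (y * e)⁻¹ = y * (e * r * e⁻¹) * y⁻¹ := by group
          rw [e1, hyn]
          constructor
          · intro hr
            have := A.mul_mem (A.mul_mem (A.inv_mem heA) hr) heA
            have e2 : e⁻¹ * (e * r * e⁻¹) * e = r := by group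
            rw [e2] at this
            exact this
          · intro hr
            exact A.mul_mem (A.mul_mem heA hr) (A.inv_mem heA)
    have hqV : q ∉ V := fun hq => hqA (Or.inl hq)
    have hqe : q * e * q⁻¹ ∈ A := (hqn e).mpr heA
    -- `q e q⁻¹ ∉ V`
    obtain ⟨v, hvV, hv⟩ : ∃ v ∈ V, q * e * q⁻¹ = v * e := by
      rcases hqe with h1 | h1
      · exfalso
        apply heQ
        have : e = q⁻¹ * (q * e * q⁻¹) * q := by group
        rw [this]
        exact Q.mul_mem (Q.mul_mem (Q.inv_mem hqQ) (h.hVQ h1)) hqQ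
      · refine ⟨q * e * q⁻¹ * e, h1, ?_⟩
        calc q * e * q⁻¹ = q * e * q⁻¹ * (e * e) := by rw [hee, mul_one]
          _ = q * e * q⁻¹ * e * e := by group
    have einv : e⁻¹ = e := inv_eq_of_mul_eq_one_left hee
    have hvv : v⁻¹ = v := inv_eq_of_mul_eq_one_left (h.hVe v hvV)
    have hconj : e * q * e⁻¹ = q * v := by
      have h1 : q * e = v * e * q := by
        calc q * e = (q * e * q⁻¹) * q := by group
          _ = v * e * q := by rw [hv]
      have h2 : e * q = v⁻¹ * (q * e) := by rw [h1]; group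
      calc e * q * e⁻¹ = v⁻¹ * (q * e) * e⁻¹ := by rw [h2]
        _ = v⁻¹ * q := by group
        _ = v * q := by rw [hvv]
        _ = q * v := h.hVc v hvV q hqQ
    obtain ⟨w, hwV, hw⟩ := exists_fixed_of_coset h.hVe hee hzV huV hzu hue
      (fun v hv hve => hCQ v (h.hVQ hv) hve) hvV hconj
    have hqw : q * w ∈ Q := Q.mul_mem hqQ (h.hVQ hwV)
    have hqwV : q * w ∈ V := by
      rcases hCQ _ hqw hw with h1 | h1
      · rw [h1]; exact V.one_mem
      · rw [h1]; exact hzV
    apply hqV
    have : q = (q * w) * w⁻¹ := by group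
    rw [this]
    exact V.mul_mem hqwV (V.inv_mem hwV)
  -- the final count
  have hVcard : Nat.card V ≤ 4 := by
    have hsub : (V : Set G) ⊆ {1, z, u, u * z} := by
      intro v hv
      rcases hV4 v hv with h1 | h1 | h1 | h1
      · left; exact h1
      · right; left; exact h1
      · right; right; left; exact h1
      · right; right; right; exact h1
    rw [← SetLike.coe_sort_coe, Nat.card_coe_set_eq]
    calc (V : Set G).ncard ≤ ({1, z, u, u * z} : Set G).ncard :=
          Set.ncard_le_ncard hsub (Set.toFinite _)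
      _ ≤ 4 := by
        refine (Set.ncard_insert_le _ _).trans ?_
        have h1 : ({z, u, u * z} : Set G).ncard ≤ 3 := by
          refine (Set.ncard_insert_le _ _).trans ?_
          have h2 : ({u, u * z} : Set G).ncard ≤ 2 := by
            refine (Set.ncard_insert_le _ _).trans ?_
            simp
          omega
        omega
  have hScard : Nat.card S ≤ 8 := by
    have hsub : (S : Set G) ⊆ (V : Set G) ∪ (fun v => v * e⁻¹) '' (V : Set G) := by
      intro s hs
      by_cases hsQ : s ∈ Q
      · left; exact hQV hsQ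
      · right
        refine ⟨s * e, hQV (hSQ s hs hsQ), ?_⟩
        show s * e * e⁻¹ = s
        group
    rw [← SetLike.coe_sort_coe S, Nat.card_coe_set_eq]
    have hVn : (V : Set G).ncard ≤ 4 := by
      rw [← Nat.card_coe_set_eq, SetLike.coe_sort_coe]; exact hVcard
    calc (S : Set G).ncard ≤ ((V : Set G) ∪ (fun v => v * e⁻¹) '' (V : Set G)).ncard :=
          Set.ncard_le_ncard hsub (Set.toFinite _)
      _ ≤ (V : Set G).ncard + ((fun v => v * e⁻¹) '' (V : Set G)).ncard := Set.ncard_union_le _ _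
      _ ≤ (V : Set G).ncard + (V : Set G).ncard :=
          Nat.add_le_add_left (Set.ncard_image_le (Set.toFinite _)) _
      _ ≤ 8 := by omega
  have := h.card_lt
  omega

end Cfsg.Agent.Lib.Helper5.KSEnd
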