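import Mathlib
import Cfsg.Prelude
import Cfsg.Agent.Lib.Helper5.KSEnd.CaseS4

set_option autoImplicit false
set_option linter.unusedSectionVars false
set_option linter.unusedVariables false
set_option maxHeartbeats 1000000
open Cfsg

/-! The case `P ≅ C₂ × S₄` of the `II-b` endgame. -/

namespace Cfsg.Agent.Lib.Helper5.KSEnd

variable {G : Type*} [Group G]

/-- the subgroup `{1, c}` of an involution -/
def invSub (c : G) (hc : c * c = 1) : Subgroup G where
  carrier := {a | a = 1 ∨ a = c}
  one_mem' := Or.inl rfl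
  mul_mem' := by
    rintro a b (rfl | rfl) (rfl | rfl)
    · left; rw [mul_one]
    · right; rw [one_mul]
    · right; rw [mul_one]
    · left; exact hc
  inv_mem' := by
    rintro a (rfl | rfl)
    · left; exact inv_one
    · right; exact inv_eq_of_mul_eq_one_left hc

theorem mem_invSub {c : G} {hc : c * c = 1} {a : G} : a ∈ invSub c hc ↔ a = 1 ∨ a = c := Iff.rfl

theorem isPGroup_invSub (c : G) (hc : c * c = 1) : IsPGroup 2 ↥(invSub c hc) := by
  rintro ⟨a, ha⟩
  refine ⟨1, ?_⟩
  apply Subtype.ext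
  rw [pow_one]
  show a ^ 2 = 1
  rcases ha with rfl | rfl
  · exact one_pow 2
  · rw [pow_two]; exact hc

theorem exists_of_mem_cj {x a : G} {H : Subgroup G} (ha : a ∈ cj x H) :
    ∃ b ∈ H, a = x * b * x⁻¹ := by
  rw [mem_cj] at ha
  exact ⟨_, ha, by group⟩

variable [Finite G]

/-- the data of `P ≅ C₂ × S₄` with Sylow `2`-subgroup `R ≅ C₂ × D₈` that is used: `c` generates the
centre of `P`, `E₁ = O₂(P)`, `E₂` is the second elementary abelian subgroup of order `8` of `R` and
`E₁ ∩ E₂ = Z(R) = {1, c, t, t c}` -/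
structure C2S4Data (P R E₁ E₂ : Subgroup G) (c t : G) : Prop where
  c_cent : ∀ p ∈ P, p * c = c * p
  c_sq : c * c = 1
  c_ne : c ≠ 1
  c_E1 : c ∈ E₁
  c_E2 : c ∈ E₂
  t_E1 : t ∈ E₁
  t_E2 : t ∈ E₂
  E1_le : E₁ ≤ P
  E1_norm : ∀ p ∈ P, ∀ a ∈ E₁, p * a * p⁻¹ ∈ E₁
  E1_card : Nat.card E₁ = 8
  E1_exp : ∀ a ∈ E₁, a * a = 1
  E1_ab : ∀ a ∈ E₁, ∀ b ∈ E₁, a * b = b * a
  E2_le : E₂ ≤ R
  E2_card : Nat.card E₂ = 8
  invol : ∀ a ∈ R, a * a = 1 → a ∈ E₁ ∨ a ∈ E₂
  noncomm : ∀ a ∈ E₂, a ∉ E₁ → ∀ b ∈ E₁, b ∉ E₂ → a * b ≠ b * a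
  inter : ∀ a ∈ E₁, a ∈ E₂ → a = 1 ∨ a = c ∨ a = t ∨ a = t * c
  centR : ∀ a ∈ R, (∀ r ∈ R, a * r = r * a) → a ∈ E₁ ∧ a ∈ E₂
  cent_t : ∀ p ∈ P, p * t = t * p → p ∈ R

variable {S L P R Q V E₁ E₂ : Subgroup G} {c t : G}

theorem case_C2S4 (h : Setup S L P R Q V) (d : C2S4Data P R E₁ E₂ c t) : False := by
  haveI : Fact (Nat.Prime 2) := ⟨Nat.prime_two⟩
  have cinv : c⁻¹ = c := inv_eq_of_mul_eq_one_left d.c_sq
  -- basic facts on `E₁`
  have hE2 : IsPGroup 2 ↥E₁ := IsPGroup.of_card (n := 3) (by rw [d.E1_card]; norm_num)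
  have hEne : E₁ ≠ ⊥ := by
    intro hb
    have := d.E1_card
    rw [hb, Subgroup.card_bot] at this
    omega
  have hN : Subgroup.normalizer (E₁ : Set G) = P := h.normalizer_eq hE2 hEne d.E1_norm
  have hER : E₁ ≤ R := h.le_of_normal hE2 d.E1_le d.E1_norm
  have hcR : c ∈ R := hER d.c_E1
  have hcS : c ∈ S := h.hRS hcR
  have hcP : c ∈ P := h.hRP hcR
  -- the centraliser of `c`
  have hCc : ∀ g : G, g * c = c * g → g ∈ P := by
    intro g hg
    have hNc : Subgroup.normalizer (invSub c d.c_sq : Set G) = P := by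
      apply h.normalizer_eq (isPGroup_invSub c d.c_sq)
      · intro hb
        have : c ∈ invSub c d.c_sq := Or.inr rfl
        rw [hb, Subgroup.mem_bot] at this
        exact d.c_ne this
      · rintro p hp a (rfl | rfl)
        · left; group
        · right
          rw [d.c_cent p hp]; group
    rw [← hNc, Subgroup.mem_normalizer_iff]
    intro a
    have hgc : g * c * g⁻¹ = c := by rw [hg]; group
    constructor
    · rintro (rfl | rfl)
      · left; group
      · right; exact hgc
    · rintro (h1 | h1)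
      · left
        have : a = g⁻¹ * (g * a * g⁻¹) * g := by group
        rw [this, h1]; group
      · right
        have : a = g⁻¹ * (g * a * g⁻¹) * g := by group
        rw [this, h1]
        calc g⁻¹ * c * g = g⁻¹ * (c * g) := by group
          _ = g⁻¹ * (g * c) := by rw [hg]
          _ = c := by group
  have hSP : ∀ s ∈ S, s * c = c * s → s ∈ R := by
    intro s hs hsc
    rw [← h.inf_eq]
    exact ⟨hs, hCc s hsc⟩
  -- the element `x`
  obtain ⟨x, hxS, hxR, hxn⟩ := exists_normalizing h.hS2 h.hRS h.hRne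
  have hxP : x ∉ P := fun hx => hxR (by rw [← h.inf_eq]; exact ⟨hxS, hx⟩)
  have hne : cj x E₁ ≠ E₁ := by
    intro heq
    apply hxP
    rw [← hN, Subgroup.mem_normalizer_iff]
    intro a
    constructor
    · intro ha
      rw [← heq]
      exact conj_mem_cj ha
    · intro ha
      rw [← heq, mem_cj] at ha
      have e : x⁻¹ * (x * a * x⁻¹) * x = a := by group
      rw [e] at ha
      exact ha
  -- elementary abelian subgroups of `R`
  have helem : ∀ E : Subgroup G, E ≤ R → (∀ a ∈ E, a * a = 1) →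
      (∀ a ∈ E, ∀ b ∈ E, a * b = b * a) → E ≤ E₁ ∨ E ≤ E₂ := by
    intro E hE hexp hab
    by_contra hcon
    push Not at hcon
    obtain ⟨a, haE, ha1⟩ := SetLike.not_le_iff_exists.mp hcon.1
    obtain ⟨b, hbE, hb2⟩ := SetLike.not_le_iff_exists.mp hcon.2
    have ha2 : a ∈ E₂ := by
      rcases d.invol a (hE haE) (hexp a haE) with h1 | h1
      · exact absurd h1 ha1
      · exact h1
    have hb1 : b ∈ E₁ := by
      rcases d.invol b (hE hbE) (hexp b hbE) with h1 | h1
      · exact h1
      · exact absurd h1 hb2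
    exact d.noncomm a ha2 ha1 b hb1 hb2 (hab a haE b hbE)
  have hcjexp : ∀ H : Subgroup G, (∀ a ∈ H, a * a = 1) → ∀ a ∈ cj x H, a * a = 1 := by
    intro H hH a ha
    obtain ⟨b, hb, rfl⟩ := exists_of_mem_cj ha
    calc x * b * x⁻¹ * (x * b * x⁻¹) = x * (b * b) * x⁻¹ := by group
      _ = 1 := by rw [hH b hb]; group
  have hcjab : ∀ H : Subgroup G, (∀ a ∈ H, ∀ b ∈ H, a * b = b * a) →
      ∀ a ∈ cj x H, ∀ b ∈ cj x H, a * b = b * a := by
    intro H hH a ha b hb
    obtain ⟨a', ha', rfl⟩ := exists_of_mem_cj ha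
    obtain ⟨b', hb', rfl⟩ := exists_of_mem_cj hb
    calc x * a' * x⁻¹ * (x * b' * x⁻¹) = x * (a' * b') * x⁻¹ := by group
      _ = x * (b' * a') * x⁻¹ := by rw [hH a' ha' b' hb']
      _ = x * b' * x⁻¹ * (x * a' * x⁻¹) := by group
  have hxnR : ∀ r ∈ R, x * r * x⁻¹ ∈ R := fun r hr => (hxn r).mpr hr
  have hE₂eq : cj x E₁ = E₂ := by
    rcases helem (cj x E₁) (cj_le_of_normalizes hER hxnR) (hcjexp E₁ d.E1_exp)
      (hcjab E₁ d.E1_ab) with h1 | h1
    · exfalso
      apply hne
      exact Subgroup.eq_of_le_of_card_ge h1 (by rw [card_cj])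
    · exact Subgroup.eq_of_le_of_card_ge h1 (by rw [card_cj, d.E1_card, d.E2_card])
  have hE2exp : ∀ a ∈ E₂, a * a = 1 := by rw [← hE₂eq]; exact hcjexp E₁ d.E1_exp
  have hE2ab : ∀ a ∈ E₂, ∀ b ∈ E₂, a * b = b * a := by rw [← hE₂eq]; exact hcjab E₁ d.E1_ab
  have hE₁eq : cj x E₂ = E₁ := by
    rcases helem (cj x E₂) (cj_le_of_normalizes d.E2_le hxnR) (hcjexp E₂ hE2exp)
      (hcjab E₂ hE2ab) with h1 | h1
    · exact Subgroup.eq_of_le_of_card_ge h1 (by rw [card_cj, d.E1_card, d.E2_card])
    · exfalso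
      apply hne
      have h2 : E₂ ≤ E₁ := by
        intro a ha
        have h3 : x * a * x⁻¹ ∈ E₂ := h1 (conj_mem_cj ha)
        rw [← hE₂eq, mem_cj] at h3
        have e : x⁻¹ * (x * a * x⁻¹) * x = a := by group
        rw [e] at h3
        exact h3
      have h3 : E₂ = E₁ := Subgroup.eq_of_le_of_card_ge h2 (by rw [d.E1_card, d.E2_card])
      rw [hE₂eq, h3]
  -- invariant elementary abelian subsets lie in the intersection
  have hinv : ∀ T : Set G, (∀ a ∈ T, a ∈ R ∧ a * a = 1) → (∀ a ∈ T, ∀ b ∈ T, a * b = b * a) →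
      (∀ a ∈ T, x * a * x⁻¹ ∈ T) → (∀ a ∈ T, x⁻¹ * a * x ∈ T) → ∀ a ∈ T, a ∈ E₁ ∧ a ∈ E₂ := by
    intro T hT hTab hTx hTx' a ha
    rcases d.invol a (hT a ha).1 (hT a ha).2 with h1 | h1
    · by_cases h2 : a ∈ E₂
      · exact ⟨h1, h2⟩
      · exfalso
        have h3 : x * a * x⁻¹ ∈ E₂ := by rw [← hE₂eq]; exact conj_mem_cj h1
        have h4 : x * a * x⁻¹ ∉ E₁ := by
          intro h5
          rw [← hE₁eq, mem_cj] at h5
          have e : x⁻¹ * (x * a * x⁻¹) * x = a := by group
          rw [e] at h5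
          exact h2 h5
        exact d.noncomm _ h3 h4 a h1 h2 (hTab _ (hTx a ha) a ha)
    · by_cases h2 : a ∈ E₁
      · exact ⟨h2, h1⟩
      · exfalso
        have h3 : x⁻¹ * a * x ∈ E₁ := by
          have := h1
          rw [← hE₂eq, mem_cj] at this
          exact this
        have h4 : x⁻¹ * a * x ∉ E₂ := by
          intro h5
          have h6 : x * (x⁻¹ * a * x) * x⁻¹ ∈ E₁ := by rw [← hE₁eq]; exact conj_mem_cj h5
          have e : x * (x⁻¹ * a * x) * x⁻¹ = a := by group
          rw [e] at h6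
          exact h2 h6
        exact d.noncomm a h1 h2 _ h3 h4 (hTab a ha _ (hTx' a ha))
  -- the conjugate of `c`
  have hc'1 : x * c * x⁻¹ ∈ E₁ := by rw [← hE₁eq]; exact conj_mem_cj d.c_E2
  have hc'2 : x * c * x⁻¹ ∈ E₂ := by rw [← hE₂eq]; exact conj_mem_cj d.c_E1
  have hc'ne : x * c * x⁻¹ ≠ c := by
    intro heq
    apply hxP
    apply hCc
    calc x * c = (x * c * x⁻¹) * x := by group
      _ = c * x := by rw [heq]
  have hc'ne1 : x * c * x⁻¹ ≠ 1 := by
    intro heq
    apply d.c_ne
    have : c = x⁻¹ * (x * c * x⁻¹) * x := by group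
    rw [this, heq]; group
  -- the central involution
  obtain ⟨z, hzS, hz1, hzc, hzz⟩ := h.exists_central_invol
  have hzR : z ∈ R := hSP z hzS (hzc c hcS)
  have hzI : z ∈ E₁ ∧ z ∈ E₂ := d.centR z hzR (fun r hr => hzc r (h.hRS hr))
  have hzV : z ∈ V := h.hL3 z hzS hzc hzz
  have hzinv : z⁻¹ = z := inv_eq_of_mul_eq_one_left hzz
  have hxz : x * z * x⁻¹ = z := by rw [← hzc x hxS]; group
  have hZ0 : ∀ a ∈ E₁, a ∈ E₂ →
      a = 1 ∨ a = c ∨ a = x * c * x⁻¹ ∨ a = x * c * x⁻¹ * c := by
    intro a ha1 ha2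
    rcases d.inter _ hc'1 hc'2 with h1 | h1 | h1 | h1
    · exact absurd h1 hc'ne1
    · exact absurd h1 hc'ne
    · rw [h1]
      exact d.inter a ha1 ha2
    · have ht : t = x * c * x⁻¹ * c := by
        rw [h1]
        calc t = t * (c * c) := by rw [d.c_sq, mul_one]
          _ = t * c * c := by group
      rcases d.inter a ha1 ha2 with h2 | h2 | h2 | h2
      · left; exact h2
      · right; left; exact h2
      · right; right; right; rw [h2]; exact ht
      · right; right; left; rw [h2, h1]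
  have hzcc : z = x * c * x⁻¹ * c := by
    rcases hZ0 z hzI.1 hzI.2 with h1 | h1 | h1 | h1
    · exact absurd h1 hz1
    · exfalso
      apply hc'ne
      rw [← h1]; exact hxz
    · exfalso
      apply hc'ne
      have h2 : x * z * x⁻¹ = x * (x * c * x⁻¹) * x⁻¹ := by rw [← h1]
      rw [hxz, h1] at h2
      have h3 : x⁻¹ * (x * c * x⁻¹) * x = x⁻¹ * (x * (x * c * x⁻¹) * x⁻¹) * x := by rw [← h2]
      have e1 : x⁻¹ * (x * c * x⁻¹) * x = c := by group
      have e2 : x⁻¹ * (x * (x * c * x⁻¹) * x⁻¹) * x = x * c * x⁻¹ := by group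
      rw [e1, e2] at h3
      exact h3.symm
    · exact h1
  have hzcomm : c * z = z * c := (hzc c hcS).symm
  have hxc : x * c * x⁻¹ = c * z := by
    have : x * c * x⁻¹ = z * c⁻¹ := by rw [hzcc]; group
    rw [this, cinv, hzcomm]
  have hxc' : x⁻¹ * c * x = c * z := by
    have h1 : c = x⁻¹ * (c * z) * x := by rw [← hxc]; group
    have h2 : x⁻¹ * (c * z) * x = (x⁻¹ * c * x) * (x⁻¹ * z * x) := by group
    have h3 : x⁻¹ * z * x = z := by
      calc x⁻¹ * z * x = x⁻¹ * (z * x) := by group
        _ = x⁻¹ * (x * z) := by rw [hzc x hxS]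
        _ = z := by group
    rw [h2, h3] at h1
    calc x⁻¹ * c * x = (x⁻¹ * c * x * z) * z⁻¹ := by group
      _ = c * z⁻¹ := by rw [← h1]
      _ = c * z := by rw [hzinv]
  have hZ0' : ∀ a ∈ E₁, a ∈ E₂ → a = 1 ∨ a = c ∨ a = c * z ∨ a = z := by
    intro a ha1 ha2
    rcases hZ0 a ha1 ha2 with h1 | h1 | h1 | h1
    · left; exact h1
    · right; left; exact h1
    · right; right; left; rw [h1, hxc]
    · right; right; right; rw [h1, ← hzcc]
  have hcz : c ≠ z := by
    intro heq
    apply hc'ne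
    rw [heq]; exact hxz
  have hVab : ∀ a ∈ V, ∀ b ∈ V, a * b = b * a := fun a ha b hb => h.hVc a ha b (h.hVQ hb)
  have hVx : ∀ a ∈ V, x * a * x⁻¹ ∈ V := fun a ha => h.hL5 x (h.hSL hxS) a ha
  have hVx' : ∀ a ∈ V, x⁻¹ * a * x ∈ V := by
    intro a ha
    have := h.hL5 x⁻¹ (L.inv_mem (h.hSL hxS)) a ha
    rw [inv_inv] at this
    exact this
  by_cases hcQ : c ∈ Q
  · -- case (B)
    have hVR : ∀ v ∈ V, v ∈ R := fun v hv => hSP v (h.hQS (h.hVQ hv)) (h.hVc v hv c hcQ)
    have hVZ := hinv (V : Set G) (fun a ha => ⟨hVR a ha, h.hVe a ha⟩) hVab hVx hVx'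
    have hVle : V ≤ E₁ ⊓ E₂ := fun v hv => hVZ v hv
    have hIcard : Nat.card ↥(E₁ ⊓ E₂) ≤ 4 := by
      have hsub : ((E₁ ⊓ E₂ : Subgroup G) : Set G) ⊆ {1, c, c * z, z} := by
        intro v hv
        rcases hZ0' v hv.1 hv.2 with h1 | h1 | h1 | h1
        · left; exact h1
        · right; left; exact h1
        · right; right; left; exact h1
        · right; right; right; exact h1
      rw [← SetLike.coe_sort_coe, Nat.card_coe_set_eq]
      calc ((E₁ ⊓ E₂ : Subgroup G) : Set G).ncard ≤ ({1, c, c * z, z} : Set G).ncard :=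
            Set.ncard_le_ncard hsub (Set.toFinite _)
        _ ≤ 4 := by
          refine (Set.ncard_insert_le _ _).trans ?_
          have h1 : ({c, c * z, z} : Set G).ncard ≤ 3 := by
            refine (Set.ncard_insert_le _ _).trans ?_
            have h2 : ({c * z, z} : Set G).ncard ≤ 2 := by
              refine (Set.ncard_insert_le _ _).trans ?_
              simp
            omega
          omega
    have hVeq : V = E₁ ⊓ E₂ := Subgroup.eq_of_le_of_card_ge hVle (hIcard.trans h.hL4)
    have hcV : c ∈ V := by rw [hVeq]; exact ⟨d.c_E1, d.c_E2⟩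
    have hVlist : ∀ v ∈ V, v = 1 ∨ v = c ∨ v = c * z ∨ v = z := by
      intro v hv
      have := hVle hv
      exact hZ0' v this.1 this.2
    have hkey : ∀ g : G, g * z * g⁻¹ ≠ c := by
      intro g hg
      apply h.not_cj_le g
      intro a ha
      rw [mem_cj] at ha
      apply hCc
      have h1 := hzc _ ha
      rw [← hg]
      calc a * (g * z * g⁻¹) = g * ((g⁻¹ * a * g) * z) * g⁻¹ := by group
        _ = g * (z * (g⁻¹ * a * g)) * g⁻¹ := by rw [h1]
        _ = g * z * g⁻¹ * a := by group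
    obtain ⟨g, hgL, hg3⟩ := h.hL6
    have hg3' : g ^ 3 = 1 := by rw [← hg3]; exact pow_orderOf_eq_one g
    rcases hVlist _ (h.hL5 g hgL z hzV) with h1 | h1 | h1 | h1
    · apply hz1
      have : z = g⁻¹ * (g * z * g⁻¹) * g := by group
      rw [this, h1]; group
    · exact hkey g h1
    · apply hkey (x⁻¹ * g)
      calc x⁻¹ * g * z * (x⁻¹ * g)⁻¹ = x⁻¹ * (g * z * g⁻¹) * x := by group
        _ = x⁻¹ * (x * c * x⁻¹) * x := by rw [h1, hxc]
        _ = c := by group
    · rcases hVlist _ (h.hL5 g hgL c hcV) with h2 | h2 | h2 | h2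
      · apply d.c_ne
        have : c = g⁻¹ * (g * c * g⁻¹) * g := by group
        rw [this, h2]; group
      · -- `g` centralises `Z₀`
        have hgc : g * c = c * g := by
          calc g * c = (g * c * g⁻¹) * g := by group
            _ = c * g := by rw [h2]
        have hgz : g * z = z * g := by
          calc g * z = (g * z * g⁻¹) * g := by group
            _ = z * g := by rw [h1]
        have hgP : g ∈ P := hCc g hgc
        have hgt : g * t = t * g := by
          rcases hZ0' t d.t_E1 d.t_E2 with h3 | h3 | h3 | h3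
          · rw [h3, mul_one, one_mul]
          · rw [h3]; exact hgc
          · rw [h3]; exact comm_mul hgc hgz
          · rw [h3]; exact hgz
        have hgR : g ∈ R := d.cent_t g hgP hgt
        have hR2 : IsPGroup 2 ↥R := h.hS2.to_le h.hRS
        obtain ⟨k, hk⟩ := hR2 ⟨g, hgR⟩
        have hk' : g ^ 2 ^ k = 1 := by
          have := congrArg Subtype.val hk
          simpa using this
        have hdvd : orderOf g ∣ 2 ^ k := orderOf_dvd_of_pow_eq_one hk'
        rw [hg3] at hdvd
        have := Nat.Prime.dvd_of_dvd_pow Nat.prime_three hdvd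
        omega
      · -- `g` swaps `c` and `c z`
        have h3 : g * (c * z) * g⁻¹ = c := by
          calc g * (c * z) * g⁻¹ = (g * c * g⁻¹) * (g * z * g⁻¹) := by group
            _ = c * z * z := by rw [h1, h2]
            _ = c * (z * z) := by group
            _ = c := by rw [hzz, mul_one]
        have e3 : g * (g * (g * c * g⁻¹) * g⁻¹) * g⁻¹ = c := by
          have hggg : g * g * g = 1 := by
            have := hg3'
            rw [pow_succ, pow_two] at this
            exact this
          have : g * (g * (g * c * g⁻¹) * g⁻¹) * g⁻¹ = (g * g * g) * c * (g * g * g)⁻¹ := by group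
          rw [this, hggg]; group
        rw [h2, h3, h2] at e3
        apply hz1
        have : c * z = c * 1 := by rw [e3, mul_one]
        exact mul_left_cancel this
      · apply hcz
        have h3 : g * c * g⁻¹ = g * z * g⁻¹ := by rw [h1, h2]
        have : g⁻¹ * (g * c * g⁻¹) * g = g⁻¹ * (g * z * g⁻¹) * g := by rw [h3]
        have e1 : g⁻¹ * (g * c * g⁻¹) * g = c := by group
        have e2 : g⁻¹ * (g * z * g⁻¹) * g = z := by group
        rw [e1, e2] at this
        exact this
  · -- case (C)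
    have hcV : c ∉ V := fun hc => hcQ (h.hVQ hc)
    have hczV : c * z ∉ V := by
      intro hc
      apply hcV
      have : c = (c * z) * z⁻¹ := by group
      rw [this]
      exact V.mul_mem hc (V.inv_mem hzV)
    have hC : ∀ v ∈ V, c * v = v * c → v = 1 ∨ v = z := by
      intro v hv hvc
      have hT := hinv {v | v ∈ V ∧ c * v = v * c}
        (fun a ha => ⟨hSP a (h.hQS (h.hVQ ha.1)) ha.2.symm, h.hVe a ha.1⟩)
        (fun a ha b hb => hVab a ha.1 b hb.1)
        (fun a ha => by
          refine ⟨hVx a ha.1, ?_⟩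
          have hza : z * a = a * z := hzc a (h.hQS (h.hVQ ha.1))
          calc c * (x * a * x⁻¹) = x * ((x⁻¹ * c * x) * a) * x⁻¹ := by group
            _ = x * (c * z * a) * x⁻¹ := by rw [hxc']
            _ = x * (c * (z * a)) * x⁻¹ := by group
            _ = x * (c * (a * z)) * x⁻¹ := by rw [hza]
            _ = x * ((c * a) * z) * x⁻¹ := by group
            _ = x * ((a * c) * z) * x⁻¹ := by rw [ha.2]
            _ = x * (a * (c * z)) * x⁻¹ := by group
            _ = x * (a * (x⁻¹ * c * x)) * x⁻¹ := by rw [hxc']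
            _ = x * a * x⁻¹ * c := by group)
        (fun a ha => by
          refine ⟨hVx' a ha.1, ?_⟩
          have hza : z * a = a * z := hzc a (h.hQS (h.hVQ ha.1))
          calc c * (x⁻¹ * a * x) = x⁻¹ * ((x * c * x⁻¹) * a) * x := by group
            _ = x⁻¹ * (c * z * a) * x := by rw [hxc]
            _ = x⁻¹ * (c * (z * a)) * x := by group
            _ = x⁻¹ * (c * (a * z)) * x := by rw [hza]
            _ = x⁻¹ * ((c * a) * z) * x := by group
            _ = x⁻¹ * ((a * c) * z) * x := by rw [ha.2]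
            _ = x⁻¹ * (a * (c * z)) * x := by group
            _ = x⁻¹ * (a * (x * c * x⁻¹)) * x := by rw [hxc]
            _ = x⁻¹ * a * x * c := by group)
        v ⟨hv, hvc⟩
      rcases hZ0' v hT.1 hT.2 with h1 | h1 | h1 | h1
      · left; exact h1
      · exact absurd (h1 ▸ hv) hcV
      · exact absurd (h1 ▸ hv) hczV
      · right; exact h1
    have hen : ∀ v ∈ V, c * v * c⁻¹ ∈ V := fun v hv => h.hL5 c (h.hSL hcS) v hv
    obtain ⟨u, huV, hu1, huz, hue, hV4⟩ := four_structure hVab h.hVe d.c_sq hen hzV hzcomm hC h.hL4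
    have hzu : z * u = u * z := hVab z hzV u huV
    -- elements of `S` outside `Q`
    have hcentV : ∀ s ∈ S, s * u = u * s → s ∈ Q := by
      intro s hs hsu
      apply h.hL2 s hs
      intro v hv
      rcases hV4 v hv with rfl | rfl | rfl | rfl
      · rw [mul_one, one_mul]
      · exact (hzc s hs).symm
      · exact hsu
      · exact comm_mul hsu (hzc s hs).symm
    have hmoveS : ∀ s ∈ S, s ∉ Q → s * u * s⁻¹ = u * z := by
      intro s hs hsQ
      have hmem : s * u * s⁻¹ ∈ V := h.hL5 s (h.hSL hs) u huV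
      rcases hV4 _ hmem with h1 | h1 | h1 | h1
      · exfalso
        apply hu1
        have : u = s⁻¹ * (s * u * s⁻¹) * s := by group
        rw [this, h1]; group
      · exfalso
        apply huz
        have : u = s⁻¹ * (s * u * s⁻¹) * s := by group
        rw [this, h1]
        have : s⁻¹ * z * s = z := by
          have := hzc s hs
          calc s⁻¹ * z * s = s⁻¹ * (z * s) := by group
            _ = s⁻¹ * (s * z) := by rw [this]
            _ = z := by group
        exact this
      · exfalso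
        apply hsQ
        apply hcentV s hs
        calc s * u = (s * u * s⁻¹) * s := by group
          _ = u * s := by rw [h1]
      · exact h1
    have hSQ : ∀ s ∈ S, s ∉ Q → s * c ∈ Q := by
      intro s hs hsQ
      apply hcentV (s * c) (S.mul_mem hs hcS)
      have h1 := hmoveS s hs hsQ
      have h2 : s * c * u * (s * c)⁻¹ = u := by
        calc s * c * u * (s * c)⁻¹ = s * (c * u * c⁻¹) * s⁻¹ := by group
          _ = s * (u * z) * s⁻¹ := by rw [hue]
          _ = (s * u * s⁻¹) * (s * z * s⁻¹) := by group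
          _ = (u * z) * z := by
            rw [h1]
            have : s * z * s⁻¹ = z := by
              rw [← hzc s hs]; group
            rw [this]
          _ = u * (z * z) := by group
          _ = u := by rw [hzz, mul_one]
      calc s * c * u = (s * c * u * (s * c)⁻¹) * (s * c) := by group
        _ = u * (s * c) := by rw [h2]
    -- `c x c⁻¹ = x z`
    have hcx : c * x * c⁻¹ = x * z := by
      have h1 : x * c = c * z * x := by
        calc x * c = (x * c * x⁻¹) * x := by group
          _ = c * z * x := by rw [hxc]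
      have h2 : c * x * c = z * x := by
        calc c * x * c = c * (x * c) := by group
          _ = c * (c * z * x) := by rw [h1]
          _ = (c * c) * z * x := by group
          _ = z * x := by rw [d.c_sq, one_mul]
      rw [cinv, h2]
      exact hzc x hxS
    obtain ⟨w, hwV, hw⟩ := exists_fixed_of_coset h.hVe d.c_sq hzV huV hzu hue hC hzV hcx
    have hd₀R : x * w ∈ R := hSP (x * w) (S.mul_mem hxS (h.hQS (h.hVQ hwV))) hw.symm
    have hd₀P : x * w ∈ P := h.hRP hd₀R
    have hFQ : ∀ a ∈ E₁, a ∈ Q → a ∈ E₂ := by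
      intro a ha haQ
      have h1 : x * w * a * (x * w)⁻¹ = x * a * x⁻¹ := by
        have hwa : w * a = a * w := h.hVc w hwV a haQ
        calc x * w * a * (x * w)⁻¹ = x * (w * a) * w⁻¹ * x⁻¹ := by group
          _ = x * (a * w) * w⁻¹ * x⁻¹ := by rw [hwa]
          _ = x * a * x⁻¹ := by group
      have h2 : x * a * x⁻¹ ∈ E₁ := by
        rw [← h1]
        exact d.E1_norm _ hd₀P a ha
      rw [← hE₁eq, mem_cj] at h2
      have e : x⁻¹ * (x * a * x⁻¹) * x = a := by group
      rw [e] at h2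
      exact h2
    have hE₁E₂ : E₁ ≤ E₂ := by
      intro a ha
      by_cases haQ : a ∈ Q
      · exact hFQ a ha haQ
      · have h1 : a * c ∈ Q := hSQ a (h.hRS (hER ha)) haQ
        have h2 : a * c ∈ E₂ := hFQ _ (E₁.mul_mem ha d.c_E1) h1
        have : a = (a * c) * c⁻¹ := by group
        rw [this]
        exact E₂.mul_mem h2 (E₂.inv_mem d.c_E2)
    apply hne
    rw [hE₂eq]
    exact (Subgroup.eq_of_le_of_card_ge hE₁E₂ (by rw [d.E1_card, d.E2_card])).symm

end Cfsg.Agent.Lib.Helper5.KSEnd
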