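import Mathlib
import Cfsg.Prelude
import Cfsg.Agent.Lib.Helper5.KSEnd.CaseC2S4

set_option autoImplicit false
set_option linter.unusedSectionVars false
set_option linter.unusedVariables false
set_option maxHeartbeats 1000000
open Cfsg Equiv

/-! The concrete facts on `S₄` and `C₂ × S₄` used in the `II-b` endgame, by enumeration. -/

namespace Cfsg.Agent.Lib.Helper5.KSEnd

/-- the normal four-group of `S₄` -/
def inV4 (σ : Perm (Fin 4)) : Prop :=
  σ = 1 ∨ σ = swap 0 1 * swap 2 3 ∨ σ = swap 0 2 * swap 1 3 ∨ σ = swap 0 3 * swap 1 2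

instance decInV4 : DecidablePred inV4 := fun σ => by unfold inV4; infer_instance

/-- the second four-group of the dihedral group -/
def inW4 (σ : Perm (Fin 4)) : Prop :=
  σ = 1 ∨ σ = swap 0 2 ∨ σ = swap 1 3 ∨ σ = swap 0 2 * swap 1 3

instance decInW4 : DecidablePred inW4 := fun σ => by unfold inW4; infer_instance

/-- the dihedral group of the square `0 1 2 3` -/
def inD8 (σ : Perm (Fin 4)) : Prop := ∀ i : Fin 4, σ (i + 2) = σ i + 2

instance decInD8 : DecidablePred inD8 := fun σ => by unfold inD8; infer_instance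

set_option maxRecDepth 100000 in
theorem inV4_mul : ∀ a : Perm (Fin 4), inV4 a → ∀ b : Perm (Fin 4), inV4 b → inV4 (a * b) := by
  decide

set_option maxRecDepth 100000 in
theorem inV4_inv : ∀ a : Perm (Fin 4), inV4 a → inV4 a⁻¹ := by decide

set_option maxRecDepth 100000 in
theorem inW4_mul : ∀ a : Perm (Fin 4), inW4 a → ∀ b : Perm (Fin 4), inW4 b → inW4 (a * b) := by
  decide

set_option maxRecDepth 100000 in
theorem inW4_inv : ∀ a : Perm (Fin 4), inW4 a → inW4 a⁻¹ := by decide

set_option maxRecDepth 100000 in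
theorem inD8_mul : ∀ a : Perm (Fin 4), inD8 a → ∀ b : Perm (Fin 4), inD8 b → inD8 (a * b) := by
  decide

set_option maxRecDepth 100000 in
theorem inD8_inv : ∀ a : Perm (Fin 4), inD8 a → inD8 a⁻¹ := by decide

/-- the normal four-group of `S₄` -/
def V4s : Subgroup (Perm (Fin 4)) where
  carrier := {σ | inV4 σ}
  one_mem' := Or.inl rfl
  mul_mem' := fun {a b} ha hb => inV4_mul a ha b hb
  inv_mem' := fun {a} ha => inV4_inv a ha

/-- the second four-group -/
def W4s : Subgroup (Perm (Fin 4)) where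
  carrier := {σ | inW4 σ}
  one_mem' := Or.inl rfl
  mul_mem' := fun {a b} ha hb => inW4_mul a ha b hb
  inv_mem' := fun {a} ha => inW4_inv a ha

/-- the dihedral group -/
def D8s : Subgroup (Perm (Fin 4)) where
  carrier := {σ | inD8 σ}
  one_mem' := by decide
  mul_mem' := fun {a b} ha hb => inD8_mul a ha b hb
  inv_mem' := fun {a} ha => inD8_inv a ha

theorem mem_V4s {σ : Perm (Fin 4)} : σ ∈ V4s ↔ inV4 σ := Iff.rfl
theorem mem_W4s {σ : Perm (Fin 4)} : σ ∈ W4s ↔ inW4 σ := Iff.rfl
theorem mem_D8s {σ : Perm (Fin 4)} : σ ∈ D8s ↔ inD8 σ := Iff.rfl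

/-! ### the model `S₄` -/

set_option maxRecDepth 100000 in
theorem inV4_conj : ∀ a : Perm (Fin 4), inV4 a → ∀ p : Perm (Fin 4), inV4 (p * a * p⁻¹) := by
  decide

set_option maxRecDepth 100000 in
theorem inV4_sq : ∀ a : Perm (Fin 4), inV4 a → a * a = 1 := by decide

set_option maxRecDepth 100000 in
theorem inV4_cent : ∀ p : Perm (Fin 4),
    (∀ a : Perm (Fin 4), inV4 a → p * a = a * p) → inV4 p := by decide

set_option maxRecDepth 100000 in
theorem card_inV4 : Fintype.card {σ : Perm (Fin 4) // inV4 σ} = 4 := by decide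

theorem card_V4s : Nat.card ↥V4s = 4 := by
  show Nat.card {σ : Perm (Fin 4) // inV4 σ} = 4
  rw [Nat.card_eq_fintype_card]
  exact card_inV4

theorem model_S4 : S4Data (⊤ : Subgroup (Perm (Fin 4))) V4s where
  E_le := le_top
  E_norm := fun p _ a ha => inV4_conj a ha p
  E_card := card_V4s
  E_exp := fun a ha => inV4_sq a ha
  E_cent := fun p _ hp => inV4_cent p hp

/-! ### the model `C₂ × S₄` -/

/-- the central involution of the model -/
def cm : Multiplicative (ZMod 2) × Perm (Fin 4) := (Multiplicative.ofAdd 1, 1)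

/-- the central involution of the dihedral group in the model -/
def tm : Multiplicative (ZMod 2) × Perm (Fin 4) := (1, swap 0 2 * swap 1 3)

/-- `O₂` of the model -/
def E1m : Subgroup (Multiplicative (ZMod 2) × Perm (Fin 4)) :=
  V4s.comap (MonoidHom.snd (Multiplicative (ZMod 2)) (Perm (Fin 4)))

/-- the second elementary abelian subgroup of order eight -/
def E2m : Subgroup (Multiplicative (ZMod 2) × Perm (Fin 4)) :=
  W4s.comap (MonoidHom.snd (Multiplicative (ZMod 2)) (Perm (Fin 4)))

/-- the standard Sylow `2`-subgroup of the model -/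
def Rm : Subgroup (Multiplicative (ZMod 2) × Perm (Fin 4)) :=
  D8s.comap (MonoidHom.snd (Multiplicative (ZMod 2)) (Perm (Fin 4)))

theorem mem_E1m {m : Multiplicative (ZMod 2) × Perm (Fin 4)} : m ∈ E1m ↔ inV4 m.2 := Iff.rfl
theorem mem_E2m {m : Multiplicative (ZMod 2) × Perm (Fin 4)} : m ∈ E2m ↔ inW4 m.2 := Iff.rfl
theorem mem_Rm {m : Multiplicative (ZMod 2) × Perm (Fin 4)} : m ∈ Rm ↔ inD8 m.2 := Iff.rfl

set_option maxRecDepth 100000 in
theorem cm_cent : ∀ p : Multiplicative (ZMod 2) × Perm (Fin 4), p * cm = cm * p := by decide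

set_option maxRecDepth 100000 in
theorem cm_sq : cm * cm = 1 := by decide

set_option maxRecDepth 100000 in
theorem cm_ne : cm ≠ 1 := by decide

set_option maxRecDepth 100000 in
theorem card_inV4m :
    Fintype.card {m : Multiplicative (ZMod 2) × Perm (Fin 4) // inV4 m.2} = 8 := by decide

set_option maxRecDepth 100000 in
theorem card_inW4m :
    Fintype.card {m : Multiplicative (ZMod 2) × Perm (Fin 4) // inW4 m.2} = 8 := by decide

set_option maxRecDepth 100000 in
theorem card_inD8m :
    Fintype.card {m : Multiplicative (ZMod 2) × Perm (Fin 4) // inD8 m.2} = 16 := by decide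

set_option maxRecDepth 100000 in
theorem card_M4 : Fintype.card (Multiplicative (ZMod 2) × Perm (Fin 4)) = 48 := by decide

theorem card_E1m : Nat.card ↥E1m = 8 := by
  show Nat.card {m : Multiplicative (ZMod 2) × Perm (Fin 4) // inV4 m.2} = 8
  rw [Nat.card_eq_fintype_card]
  exact card_inV4m

theorem card_E2m : Nat.card ↥E2m = 8 := by
  show Nat.card {m : Multiplicative (ZMod 2) × Perm (Fin 4) // inW4 m.2} = 8
  rw [Nat.card_eq_fintype_card]
  exact card_inW4m

theorem card_Rm : Nat.card ↥Rm = 16 := by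
  show Nat.card {m : Multiplicative (ZMod 2) × Perm (Fin 4) // inD8 m.2} = 16
  rw [Nat.card_eq_fintype_card]
  exact card_inD8m

set_option maxRecDepth 100000 in
theorem m_E1_norm : ∀ a : Multiplicative (ZMod 2) × Perm (Fin 4), inV4 a.2 →
    ∀ p : Multiplicative (ZMod 2) × Perm (Fin 4), inV4 (p * a * p⁻¹).2 := by decide

set_option maxRecDepth 100000 in
theorem m_E1_exp : ∀ a : Multiplicative (ZMod 2) × Perm (Fin 4), inV4 a.2 → a * a = 1 := by
  decide

set_option maxRecDepth 100000 in
theorem m_E1_ab : ∀ a : Multiplicative (ZMod 2) × Perm (Fin 4), inV4 a.2 →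
    ∀ b : Multiplicative (ZMod 2) × Perm (Fin 4), inV4 b.2 → a * b = b * a := by decide

set_option maxRecDepth 100000 in
theorem m_E2_le : ∀ a : Multiplicative (ZMod 2) × Perm (Fin 4), inW4 a.2 → inD8 a.2 := by decide

set_option maxRecDepth 100000 in
theorem m_invol : ∀ a : Multiplicative (ZMod 2) × Perm (Fin 4), inD8 a.2 → a * a = 1 →
    inV4 a.2 ∨ inW4 a.2 := by decide

set_option maxRecDepth 100000 in
theorem m_noncomm : ∀ a : Multiplicative (ZMod 2) × Perm (Fin 4), inW4 a.2 → ¬ inV4 a.2 →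
    ∀ b : Multiplicative (ZMod 2) × Perm (Fin 4), inV4 b.2 → ¬ inW4 b.2 → a * b ≠ b * a := by
  decide

set_option maxRecDepth 100000 in
theorem m_inter : ∀ a : Multiplicative (ZMod 2) × Perm (Fin 4), inV4 a.2 → inW4 a.2 →
    a = 1 ∨ a = cm ∨ a = tm ∨ a = tm * cm := by decide

instance decCentR (a : Multiplicative (ZMod 2) × Perm (Fin 4)) :
    Decidable (∀ r : Multiplicative (ZMod 2) × Perm (Fin 4), inD8 r.2 → a * r = r * a) := by
  infer_instance

set_option maxRecDepth 100000 in
theorem m_centR : ∀ a : Multiplicative (ZMod 2) × Perm (Fin 4), inD8 a.2 →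
    (∀ r : Multiplicative (ZMod 2) × Perm (Fin 4), inD8 r.2 → a * r = r * a) →
    inV4 a.2 ∧ inW4 a.2 := by decide

set_option maxRecDepth 100000 in
theorem m_cent_t : ∀ p : Multiplicative (ZMod 2) × Perm (Fin 4), p * tm = tm * p → inD8 p.2 := by
  decide

theorem model_C2S4 :
    C2S4Data (⊤ : Subgroup (Multiplicative (ZMod 2) × Perm (Fin 4))) Rm E1m E2m cm tm where
  c_cent := fun p _ => cm_cent p
  c_sq := cm_sq
  c_ne := cm_ne
  c_E1 := by show inV4 cm.2; decide
  c_E2 := by show inW4 cm.2; decide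
  t_E1 := by show inV4 tm.2; decide
  t_E2 := by show inW4 tm.2; decide
  E1_le := le_top
  E1_norm := fun p _ a ha => m_E1_norm a ha p
  E1_card := card_E1m
  E1_exp := fun a ha => m_E1_exp a ha
  E1_ab := fun a ha b hb => m_E1_ab a ha b hb
  E2_le := fun a ha => m_E2_le a ha
  E2_card := card_E2m
  invol := fun a ha haa => m_invol a ha haa
  noncomm := fun a ha ha' b hb hb' => m_noncomm a ha ha' b hb hb'
  inter := fun a ha hb => m_inter a ha hb
  centR := fun a ha hc => m_centR a ha hc
  cent_t := fun p _ hp => m_cent_t p hp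

end Cfsg.Agent.Lib.Helper5.KSEnd
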