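import Mathlib
import Cfsg.Prelude
import Cfsg.Agent.Lib.Helper5.KSEnd.Model

set_option autoImplicit false
set_option linter.unusedSectionVars false
set_option linter.unusedVariables false
set_option maxHeartbeats 1000000
open Cfsg Equiv

/-! Transport of the concrete data along an isomorphism `P ≅ S₄` or `P ≅ C₂ × S₄`. -/

namespace Cfsg.Agent.Lib.Helper5.KSEnd

variable {G : Type*} [Group G] [Finite G]

theorem S4Data.map {M : Type*} [Group M] [Finite M] {P E₁ : Subgroup M} (d : S4Data P E₁)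
    (ι : M →* G) (hι : Function.Injective ι) : S4Data (P.map ι) (E₁.map ι) where
  E_le := Subgroup.map_mono d.E_le
  E_norm := by
    rintro _ ⟨p, hp, rfl⟩ _ ⟨a, ha, rfl⟩
    exact ⟨p * a * p⁻¹, d.E_norm p hp a ha, by simp⟩
  E_card := by rw [Subgroup.card_map_of_injective hι, d.E_card]
  E_exp := by
    rintro _ ⟨a, ha, rfl⟩
    rw [← map_mul, d.E_exp a ha, map_one]
  E_cent := by
    rintro _ ⟨p, hp, rfl⟩ hc
    refine ⟨p, d.E_cent p hp (fun a ha => hι ?_), rfl⟩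
    rw [map_mul, map_mul]
    exact hc _ ⟨a, ha, rfl⟩

theorem C2S4Data.map {M : Type*} [Group M] [Finite M] {P R E₁ E₂ : Subgroup M} {c t : M}
    (d : C2S4Data P R E₁ E₂ c t) (ι : M →* G) (hι : Function.Injective ι) :
    C2S4Data (P.map ι) (R.map ι) (E₁.map ι) (E₂.map ι) (ι c) (ι t) where
  c_cent := by
    rintro _ ⟨p, hp, rfl⟩
    rw [← map_mul, ← map_mul, d.c_cent p hp]
  c_sq := by rw [← map_mul, d.c_sq, map_one]
  c_ne := fun h => d.c_ne (hι (by rw [h, map_one]))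
  c_E1 := ⟨c, d.c_E1, rfl⟩
  c_E2 := ⟨c, d.c_E2, rfl⟩
  t_E1 := ⟨t, d.t_E1, rfl⟩
  t_E2 := ⟨t, d.t_E2, rfl⟩
  E1_le := Subgroup.map_mono d.E1_le
  E1_norm := by
    rintro _ ⟨p, hp, rfl⟩ _ ⟨a, ha, rfl⟩
    exact ⟨p * a * p⁻¹, d.E1_norm p hp a ha, by simp⟩
  E1_card := by rw [Subgroup.card_map_of_injective hι, d.E1_card]
  E1_exp := by
    rintro _ ⟨a, ha, rfl⟩
    rw [← map_mul, d.E1_exp a ha, map_one]
  E1_ab := by
    rintro _ ⟨a, ha, rfl⟩ _ ⟨b, hb, rfl⟩
    rw [← map_mul, ← map_mul, d.E1_ab a ha b hb]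
  E2_le := Subgroup.map_mono d.E2_le
  E2_card := by rw [Subgroup.card_map_of_injective hι, d.E2_card]
  invol := by
    rintro _ ⟨a, ha, rfl⟩ haa
    have : a * a = 1 := hι (by rw [map_mul, map_one]; exact haa)
    rcases d.invol a ha this with h | h
    · exact Or.inl ⟨a, h, rfl⟩
    · exact Or.inr ⟨a, h, rfl⟩
  noncomm := by
    rintro _ ⟨a, ha, rfl⟩ ha1 _ ⟨b, hb, rfl⟩ hb2 hab
    have ha1' : a ∉ E₁ := fun h => ha1 ⟨a, h, rfl⟩
    have hb2' : b ∉ E₂ := fun h => hb2 ⟨b, h, rfl⟩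
    exact d.noncomm a ha ha1' b hb hb2' (hι (by rw [map_mul, map_mul]; exact hab))
  inter := by
    rintro _ ⟨a, ha, rfl⟩ ha2
    have ha2' : a ∈ E₂ := (Subgroup.mem_map_iff_mem hι).mp ha2
    rcases d.inter a ha ha2' with h | h | h | h
    · left; rw [h, map_one]
    · right; left; rw [h]
    · right; right; left; rw [h]
    · right; right; right; rw [h, map_mul]
  centR := by
    rintro _ ⟨a, ha, rfl⟩ hc
    have := d.centR a ha (fun r hr => hι (by rw [map_mul, map_mul]; exact hc _ ⟨r, hr, rfl⟩))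
    exact ⟨⟨a, this.1, rfl⟩, ⟨a, this.2, rfl⟩⟩
  cent_t := by
    rintro _ ⟨p, hp, rfl⟩ hpt
    exact ⟨p, d.cent_t p hp (hι (by rw [map_mul, map_mul]; exact hpt)), rfl⟩

/-- order of a Sylow `2`-subgroup of a subgroup -/
theorem card_mul_relIndex_of_le {R P : Subgroup G} (hRP : R ≤ P) :
    Nat.card R * R.relIndex P = Nat.card P := by
  have h1 := Subgroup.card_mul_index (R.subgroupOf P)
  have h2 : Nat.card ↥(R.subgroupOf P) = Nat.card R :=
    Nat.card_congr (Subgroup.subgroupOfEquivOfLe hRP).toEquiv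
  rw [h2] at h1
  exact h1

theorem card_sylow_of_card {R P : Subgroup G} (hR : IsSylowTwoIn R P) {a b : ℕ}
    (hP : Nat.card P = 2 ^ a * (2 * b + 1)) : Nat.card R = 2 ^ a := by
  haveI : Fact (Nat.Prime 2) := ⟨Nat.prime_two⟩
  obtain ⟨hRP, hR2, hodd⟩ := hR
  have h1 := card_mul_relIndex_of_le hRP
  obtain ⟨k, hk⟩ := IsPGroup.iff_card.mp hR2
  rw [hk, hP] at h1
  rw [hk]
  -- `2 ^ k * odd = 2 ^ a * odd`
  have hc1 : Nat.Coprime (2 ^ k) (2 * b + 1) :=
    Nat.Coprime.pow_left k (Nat.coprime_two_left.mpr ⟨b, rfl⟩)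
  have hc2 : Nat.Coprime (2 ^ a) (R.relIndex P) :=
    Nat.Coprime.pow_left a (Nat.coprime_two_left.mpr hodd)
  have hd1 : 2 ^ k ∣ 2 ^ a := by
    apply Nat.Coprime.dvd_of_dvd_mul_right hc1
    rw [← h1]
    exact dvd_mul_right _ _
  have hd2 : 2 ^ a ∣ 2 ^ k := by
    apply Nat.Coprime.dvd_of_dvd_mul_right hc2
    rw [h1]
    exact dvd_mul_right _ _
  exact Nat.dvd_antisymm hd1 hd2

/-- a Sylow `2`-subgroup of a subgroup has the largest order among its `2`-subgroups -/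
theorem card_le_of_sylow {R P R' : Subgroup G} (hR : IsSylowTwoIn R P) (hR' : IsPGroup 2 R')
    (hle : R' ≤ P) : Nat.card R' ≤ Nat.card R := by
  haveI : Fact (Nat.Prime 2) := ⟨Nat.prime_two⟩
  obtain ⟨hRP, hR2, hodd⟩ := hR
  have h1 := card_mul_relIndex_of_le hRP
  obtain ⟨k, hk⟩ := IsPGroup.iff_card.mp hR'
  have hd : Nat.card R' ∣ Nat.card P := Subgroup.card_dvd_of_le hle
  rw [← h1, hk] at hd
  have hc : Nat.Coprime (2 ^ k) (R.relIndex P) :=
    Nat.Coprime.pow_left k (Nat.coprime_two_left.mpr hodd)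
  have hd' : 2 ^ k ∣ Nat.card R := Nat.Coprime.dvd_of_dvd_mul_right hc hd
  rw [hk]
  exact Nat.le_of_dvd Nat.card_pos hd'

/-- the embedding attached to an isomorphism of a subgroup with a model group -/
def embOf {M : Type*} [Group M] {P : Subgroup G} (ψ : ↥P ≃* M) : M →* G :=
  P.subtype.comp ψ.symm.toMonoidHom

theorem embOf_apply {M : Type*} [Group M] {P : Subgroup G} (ψ : ↥P ≃* M) (m : M) :
    embOf ψ m = ((ψ.symm m : ↥P) : G) := rfl

theorem embOf_injective {M : Type*} [Group M] {P : Subgroup G} (ψ : ↥P ≃* M) :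
    Function.Injective (embOf ψ) := by
  intro a b hab
  rw [embOf_apply, embOf_apply] at hab
  exact ψ.symm.injective (Subtype.ext hab)

theorem map_top_embOf {M : Type*} [Group M] {P : Subgroup G} (ψ : ↥P ≃* M) :
    (⊤ : Subgroup M).map (embOf ψ) = P := by
  ext g
  constructor
  · rintro ⟨m, _, rfl⟩
    rw [embOf_apply]
    exact (ψ.symm m).2
  · intro hg
    refine ⟨ψ ⟨g, hg⟩, Subgroup.mem_top _, ?_⟩
    rw [embOf_apply, MulEquiv.symm_apply_apply]

theorem exists_S4Data {P R : Subgroup G} (ψ : ↥P ≃* Perm (Fin 4)) (hR : IsSylowTwoIn R P) :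
    (∃ E₁ : Subgroup G, S4Data P E₁) ∧ Nat.card R = 8 := by
  constructor
  · have := model_S4.map (embOf ψ) (embOf_injective ψ)
    rw [map_top_embOf] at this
    exact ⟨_, this⟩
  · have hP : Nat.card P = 2 ^ 3 * (2 * 1 + 1) := by
      rw [Nat.card_congr ψ.toEquiv, Nat.card_perm, Nat.card_fin]
      decide
    have := card_sylow_of_card hR hP
    rw [this]; norm_num

theorem exists_C2S4Data {P R : Subgroup G} (ψ : ↥P ≃* Multiplicative (ZMod 2) × Perm (Fin 4))
    (hR : IsSylowTwoIn R P) :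
    ∃ (E₁ E₂ : Subgroup G) (c t : G), C2S4Data P R E₁ E₂ c t := by
  haveI : Fact (Nat.Prime 2) := ⟨Nat.prime_two⟩
  have hM : Nat.card (Multiplicative (ZMod 2) × Perm (Fin 4)) = 48 := by
    rw [Nat.card_eq_fintype_card]; exact card_M4
  have hP : Nat.card P = 2 ^ 4 * (2 * 1 + 1) := by
    rw [Nat.card_congr ψ.toEquiv, hM]; norm_num
  have hRc : Nat.card R = 16 := by
    have := card_sylow_of_card hR hP
    rw [this]; norm_num
  -- the image of `R`
  set R₀ : Subgroup (Multiplicative (ZMod 2) × Perm (Fin 4)) :=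
    (R.subgroupOf P).map ψ.toMonoidHom with hR₀
  have hR₀c : Nat.card R₀ = 16 := by
    rw [hR₀, Subgroup.card_map_of_injective ψ.injective,
      Nat.card_congr (Subgroup.subgroupOfEquivOfLe hR.1).toEquiv, hRc]
  have hsyl : ∀ H : Subgroup (Multiplicative (ZMod 2) × Perm (Fin 4)), Nat.card H = 16 →
      IsPGroup 2 ↥H ∧ ¬ 2 ∣ H.index := by
    intro H hH
    refine ⟨IsPGroup.of_card (n := 4) (by rw [hH]; norm_num), ?_⟩
    have := Subgroup.card_mul_index H
    rw [hH, hM] at this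
    have h3 : H.index = 3 := by omega
    rw [h3]; norm_num
  obtain ⟨g, hg⟩ := MulAction.exists_smul_eq (Multiplicative (ZMod 2) × Perm (Fin 4))
    ((hsyl R₀ hR₀c).1.toSylow (hsyl R₀ hR₀c).2) ((hsyl Rm card_Rm).1.toSylow (hsyl Rm card_Rm).2)
  have hconj : ∀ m : Multiplicative (ZMod 2) × Perm (Fin 4), m ∈ Rm ↔ g⁻¹ * m * g ∈ R₀ := by
    intro m
    have h1 := congrArg (fun Q : Sylow 2 (Multiplicative (ZMod 2) × Perm (Fin 4)) =>
      (Q : Subgroup (Multiplicative (ZMod 2) × Perm (Fin 4)))) hg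
    simp only [Sylow.smul_def, Sylow.pointwise_smul_def, IsPGroup.toSylow_coe] at h1
    rw [← h1, Subgroup.mem_pointwise_smul_iff_inv_smul_mem, MulAut.smul_def,
      MulAut.conj_inv_apply]
  -- the adjusted isomorphism
  set ψ' : ↥P ≃* Multiplicative (ZMod 2) × Perm (Fin 4) := ψ.trans (MulAut.conj g) with hψ'
  have hψR : ∀ p : ↥P, ψ' p ∈ Rm ↔ (p : G) ∈ R := by
    intro p
    rw [hconj]
    have e : g⁻¹ * ψ' p * g = ψ p := by
      rw [hψ']
      simp only [MulEquiv.trans_apply, MulAut.conj_apply]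
      group
    rw [e, hR₀]
    have : ψ p = ψ.toMonoidHom p := rfl
    rw [this, Subgroup.mem_map_iff_mem (f := ψ.toMonoidHom) ψ.injective, Subgroup.mem_subgroupOf]
  have hRmap : Rm.map (embOf ψ') = R := by
    ext r
    constructor
    · rintro ⟨m, hm, rfl⟩
      rw [embOf_apply, ← hψR, MulEquiv.apply_symm_apply]
      exact hm
    · intro hr
      refine ⟨ψ' ⟨r, hR.1 hr⟩, (hψR _).mpr hr, ?_⟩
      rw [embOf_apply, MulEquiv.symm_apply_apply]
  have := model_C2S4.map (embOf ψ') (embOf_injective ψ')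
  rw [map_top_embOf, hRmap] at this
  exact ⟨_, _, _, _, this⟩

end Cfsg.Agent.Lib.Helper5.KSEnd
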