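import Mathlib
import Cfsg.Prelude
import Cfsg.Agent.Lib.Helper5.KSEnd.Extract

set_option autoImplicit false
set_option linter.unusedSectionVars false
set_option linter.unusedVariables false
set_option maxHeartbeats 1000000
open Cfsg Equiv

/-! The `II-b` endgame of the Kurzweil--Stellmacher chapter 12 chain: a maximal `2`-local subgroup
`P ≅ S₄` or `C₂ × S₄` whose Sylow `2`-subgroup is properly contained in a `2`-subgroup `S` does not
exist next to a subgroup `L ≥ S` with `C_S(Ω₁Z(O₂(L))) ≤ O₂(L)`, `Ω₁Z(S) ≤ Ω₁Z(O₂(L))` of order at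
least four, and `3 ∣ |L|`. -/

namespace Cfsg.Agent.Lib.Helper5.KSEnd

variable {G : Type*} [Group G]

theorem pCore_two_normal (L : Subgroup G) : (pCore 2 ↥L).Normal := by
  unfold pCore
  exact Subgroup.sSup_normal _ (fun H hH => hH.1)

theorem pCore_two_isPGroup (L : Subgroup G) : IsPGroup 2 ↥(pCore 2 ↥L) := by
  unfold pCore
  exact Sylow.sSup_of_normal _ (fun H hH => hH.2) (fun H hH => hH.1)

/-- `O₂(L)` as a subgroup of the ambient group is normalised by `L` -/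
theorem pCoreOf_conj_mem {L : Subgroup G} {l q : G} (hl : l ∈ L) (hq : q ∈ pCoreOf 2 L) :
    l * q * l⁻¹ ∈ pCoreOf 2 L := by
  unfold pCoreOf at hq ⊢
  obtain ⟨q', hq', rfl⟩ := hq
  exact ⟨⟨l, hl⟩ * q' * ⟨l, hl⟩⁻¹, (pCore_two_normal L).conj_mem q' hq' ⟨l, hl⟩, rfl⟩

/-- `O₂(L)` lies in every Sylow `2`-subgroup of the ambient group that lies in `L` -/
theorem pCoreOf_le_sylow (S : Sylow 2 G) {L : Subgroup G} (hSL : (S : Subgroup G) ≤ L) :
    pCoreOf 2 L ≤ S := by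
  unfold pCoreOf
  rintro _ ⟨q, hq, rfl⟩
  haveI := pCore_two_normal L
  have h1 : q ∈ ((S.subtype hSL : Sylow 2 ↥L) : Subgroup ↥L) :=
    IsPGroup.le_sylow_of_normal (pCore_two_isPGroup L) (S.subtype hSL) hq
  rw [Sylow.coe_subtype] at h1
  exact Subgroup.mem_subgroupOf.mp h1

/-- the involutions of the centre of `Q`, as a subgroup -/
def invCenter (Q : Subgroup G) : Subgroup G where
  carrier := {a | a ∈ Q ∧ (∀ q ∈ Q, a * q = q * a) ∧ a * a = 1}
  one_mem' := ⟨Q.one_mem, fun q _ => by rw [one_mul, mul_one], mul_one 1⟩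
  mul_mem' := by
    rintro a b ⟨ha, hac, haa⟩ ⟨hb, hbc, hbb⟩
    refine ⟨Q.mul_mem ha hb, fun q hq => ?_, ?_⟩
    · calc a * b * q = a * (b * q) := by group
        _ = a * (q * b) := by rw [hbc q hq]
        _ = (a * q) * b := by group
        _ = q * a * b := by rw [hac q hq]
        _ = q * (a * b) := by group
    · calc a * b * (a * b) = a * (b * a) * b := by group
        _ = a * (a * b) * b := by rw [hbc a ha]
        _ = (a * a) * (b * b) := by group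
        _ = 1 := by rw [haa, hbb, mul_one]
  inv_mem' := by
    rintro a ⟨ha, hac, haa⟩
    have hinv : a⁻¹ = a := inv_eq_of_mul_eq_one_left haa
    show a⁻¹ ∈ Q ∧ (∀ q ∈ Q, a⁻¹ * q = q * a⁻¹) ∧ a⁻¹ * a⁻¹ = 1
    rw [hinv]
    exact ⟨ha, hac, haa⟩

theorem omegaCenterOf_le_invCenter (Q : Subgroup G) : omegaCenterOf Q ≤ invCenter Q := by
  unfold omegaCenterOf omegaOne
  rw [Subgroup.closure_le]
  rintro a ⟨⟨haQ, haC⟩, ha2⟩
  refine ⟨haQ, fun q hq => ?_, by rw [← pow_two]; exact ha2⟩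
  exact ((Subgroup.mem_centralizer_iff.mp haC) q hq).symm

/-- the general form: `S` a `2`-subgroup containing `O₂(L)` -/
theorem no_IIb_of_le [Finite G] (S L P R : Subgroup G) (hS2 : IsPGroup 2 ↥S)
    (hQS : pCoreOf 2 L ≤ S) (hL1 : S ≤ L)
    (hL2 : S ⊓ Subgroup.centralizer (omegaCenterOf (pCoreOf 2 L) : Set G) ≤ pCoreOf 2 L)
    (hL3 : omegaCenterOf S ≤ omegaCenterOf (pCoreOf 2 L))
    (hL4 : 4 ≤ Nat.card ↥(omegaCenterOf (pCoreOf 2 L)))
    (hL5 : L ≤ Subgroup.normalizer (omegaCenterOf (pCoreOf 2 L) : Set G))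
    (hL6 : 3 ∣ Nat.card ↥L)
    (hP1 : Nonempty (↥P ≃* Perm (Fin 4)) ∨
      Nonempty (↥P ≃* Multiplicative (ZMod 2) × Perm (Fin 4)))
    (hRS : R ≤ S) (hR : IsSylowTwoIn R P) (hRne : R ≠ S)
    (hP3 : ∀ H : Subgroup G, IsTwoLocal H → P ≤ H → H = P) : False := by
  have hsetup : Setup S L P R (pCoreOf 2 L) (omegaCenterOf (pCoreOf 2 L)) := by
    refine
      { hS2 := hS2
        hSL := hL1
        hQS := hQS
        hQn := fun s hs q hq => pCoreOf_conj_mem (hL1 hs) hq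
        hVQ := fun v hv => (omegaCenterOf_le_invCenter _ hv).1
        hVc := fun v hv q hq => (omegaCenterOf_le_invCenter _ hv).2.1 q hq
        hVe := fun v hv => (omegaCenterOf_le_invCenter _ hv).2.2
        hL2 := fun s hs hc =>
          hL2 ⟨hs, Subgroup.mem_centralizer_iff.mpr (fun v hv => (hc v hv).symm)⟩
        hL3 := ?_
        hL4 := hL4
        hL5 := fun l hl v hv => (Subgroup.mem_normalizer_iff.mp (hL5 hl) v).mp hv
        hL6 := ?_
        hRS := hRS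
        hRP := hR.1
        hRne := hRne
        hRmax := fun R' h2 hle => card_le_of_sylow hR h2 hle
        hP3 := hP3 }
    · intro z hz hc hzz
      apply hL3
      unfold omegaCenterOf omegaOne
      apply Subgroup.subset_closure
      refine ⟨⟨hz, Subgroup.mem_centralizer_iff.mpr (fun s hs => (hc s hs).symm)⟩, ?_⟩
      rw [pow_two]; exact hzz
    · haveI : Fact (Nat.Prime 3) := ⟨Nat.prime_three⟩
      obtain ⟨g, hg⟩ := exists_prime_orderOf_dvd_card' (G := ↥L) 3 hL6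
      exact ⟨g.1, g.2, by rw [Subgroup.orderOf_coe]; exact hg⟩
  rcases hP1 with ⟨⟨ψ⟩⟩ | ⟨⟨ψ⟩⟩
  · obtain ⟨⟨E₁, d⟩, hRc⟩ := exists_S4Data ψ hR
    exact case_S4 hsetup d hRc
  · obtain ⟨E₁, E₂, c, t, d⟩ := exists_C2S4Data ψ hR
    exact case_C2S4 hsetup d

/-- **Lemma `no_IIb`.** `G` finite, `S` a Sylow `2`-subgroup, `S ≤ L`, `Q = O₂(L)`, `V = Ω₁Z(Q)` with
`C_S(V) ≤ Q`, `Ω₁Z(S) ≤ V`, `4 ≤ |V|`, `L ≤ N_G(V)`, `3 ∣ |L|`; `P ≅ S₄` or `C₂ × S₄` not properly
contained in a `2`-local subgroup, with a Sylow `2`-subgroup `R < S`: impossible. -/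
theorem no_IIb [Finite G] (S : Sylow 2 G) (L P R : Subgroup G)
    (hL1 : (S : Subgroup G) ≤ L)
    (hL2 : (S : Subgroup G) ⊓ Subgroup.centralizer (omegaCenterOf (pCoreOf 2 L) : Set G) ≤
      pCoreOf 2 L)
    (hL3 : omegaCenterOf (S : Subgroup G) ≤ omegaCenterOf (pCoreOf 2 L))
    (hL4 : 4 ≤ Nat.card ↥(omegaCenterOf (pCoreOf 2 L)))
    (hL5 : L ≤ Subgroup.normalizer (omegaCenterOf (pCoreOf 2 L) : Set G))
    (hL6 : 3 ∣ Nat.card ↥L)
    (hP1 : Nonempty (↥P ≃* Perm (Fin 4)) ∨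
      Nonempty (↥P ≃* Multiplicative (ZMod 2) × Perm (Fin 4)))
    (hRS : R ≤ (S : Subgroup G)) (hR : IsSylowTwoIn R P) (hRne : R ≠ (S : Subgroup G))
    (hP3 : ∀ H : Subgroup G, IsTwoLocal H → P ≤ H → H = P) : False :=
  no_IIb_of_le (S : Subgroup G) L P R S.2 (pCoreOf_le_sylow S hL1) hL1 hL2 hL3 hL4 hL5 hL6 hP1
    hRS hR hRne hP3

end Cfsg.Agent.Lib.Helper5.KSEnd
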